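import Cfsg.Agent.Lib.KnownC.AnHall.Basic

/-!
# No odd-order subgroup of a symmetric group has index prime to two odd primes `≤ n`
-/

set_option autoImplicit false

open Equiv Subgroup
open scoped Pointwise

namespace Cfsg.Agent.KnownC.AnHall

variable {α : Type*} [Fintype α] [DecidableEq α]

lemma exists_cycle {p : ℕ} (hp : 2 ≤ p) (W : Finset α) (hW : p ≤ W.card) :
    ∃ y : Perm α, y.IsCycle ∧ y.support.card = p ∧ y.support ⊆ W := by
  obtain ⟨T, hTW, hT⟩ := Finset.exists_subset_card_eq hW
  have hlen : T.toList.length = p := by rw [Finset.length_toList, hT]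
  have hsup : (T.toList.formPerm).support = T := by
    rw [List.support_formPerm_of_nodup _ T.nodup_toList
      (fun x hx => by rw [hx, List.length_singleton] at hlen; omega), Finset.toList_toFinset]
  exact ⟨_, List.isCycle_formPerm T.nodup_toList (by omega), by rw [hsup, hT], by rw [hsup]; exact hTW⟩

lemma cycle_pow_eq_one {y : Perm α} (hy : y.IsCycle) {p : ℕ} (hp : y.support.card = p) :
    y ^ p = 1 := by
  rw [← hp, ← hy.orderOf, pow_orderOf_eq_one]

lemma conj_apply_ne {g x : Perm α} {a : α} (h : x a ≠ a) : (g * x * g⁻¹) (g a) ≠ g a := by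
  simpa [Perm.mul_apply] using h

/-- The permutations preserving a set of points. -/
def setStab (P : α → Prop) : Subgroup (Perm α) := stabN (Setoid.ker P) ⊓
  { carrier := {x | ∀ a, P (x a) ↔ P a}
    mul_mem' := fun {x y} hx hy a => (hx (y a)).trans (hy a)
    one_mem' := fun _ => Iff.rfl
    inv_mem' := fun {x} hx a => by
      rw [← hx (x⁻¹ a), show x (x⁻¹ a) = a from x.apply_symm_apply a] }

lemma mem_setStab {P : α → Prop} {x : Perm α} : x ∈ setStab P ↔ ∀ a, P (x a) ↔ P a := by
  refine ⟨fun h => h.2, fun h => ⟨fun a b => ?_, h⟩⟩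
  show P (x a) = P (x b) ↔ P a = P b
  rw [propext (h a), propext (h b)]

/-- The points moved by some member of a conjugation-invariant family of elements of `H`. -/
lemma le_setStab_moved {H : Subgroup (Perm α)} (C : Perm α → Prop)
    (hC : ∀ g x, C x → C (g * x * g⁻¹)) :
    H ≤ setStab (fun a => ∃ x ∈ H, C x ∧ x a ≠ a) := by
  intro g hg
  rw [mem_setStab]
  intro a
  constructor
  · rintro ⟨x, hx, hxC, hxa⟩
    refine ⟨g⁻¹ * x * g⁻¹⁻¹, H.mul_mem (H.mul_mem (H.inv_mem hg) hx) (by simpa using hg),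
      hC _ _ hxC, ?_⟩
    have := conj_apply_ne (g := g⁻¹) hxa
    rwa [show g⁻¹ (g a) = a from g.symm_apply_apply a] at this
  · rintro ⟨x, hx, hxC, hxa⟩
    exact ⟨g * x * g⁻¹, H.mul_mem (H.mul_mem hg hx) (H.inv_mem hg), hC _ _ hxC, conj_apply_ne hxa⟩

/-- An odd-order group is not `2`-transitive. -/
lemma even_of_two_pretransitive {G β : Type*} [Group G] [Finite G] [MulAction G β] {a b : β}
    (hab : a ≠ b) (h : MulAction.IsMultiplyPretransitive G β 2) : Even (Nat.card G) := by
  obtain ⟨g, hga, hgb⟩ := MulAction.is_two_pretransitive_iff.1 h hab hab.symm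
  have hfix : ∀ j : ℕ, g ^ (2 * j) • a = a := by
    intro j
    induction j with
    | zero => simp
    | succ j ih => rw [show 2 * (j + 1) = 2 * j + 1 + 1 by ring, pow_succ, mul_smul, hga, pow_succ,
        mul_smul, hgb, ih]
  by_contra hne
  rw [Nat.not_even_iff_odd] at hne
  obtain ⟨j, hj⟩ := hne
  have := congrArg (· • a) (pow_card_eq_one' (x := g))
  simp only [one_smul] at this
  rw [hj, pow_succ', mul_smul, hfix, hga] at this
  exact hab this.symm

theorem false_of_two_odd {H : Subgroup (Perm α)} (hodd : Odd (Nat.card H)) {p r : ℕ}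
    (hp : p.Prime) (hr : r.Prime) (hp2 : p ≠ 2) (hpr : p < r) (hrn : r ≤ Fintype.card α)
    (hpH : ¬ p ∣ H.index) (hrH : ¬ r ∣ H.index) : False := by
  classical
  haveI := Fact.mk hp
  haveI := Fact.mk hr
  set C : Perm α → Prop := fun x => x.IsCycle ∧ x.support.card = p with hCdef
  set Z : α → Prop := fun a => ∃ x ∈ H, C x ∧ x a ≠ a with hZ
  have hC : ∀ g x, C x → C (g * x * g⁻¹) := fun g x hx =>
    ⟨hx.1.conj, by rw [Perm.card_support_conj, hx.2]⟩
  have hHS : H ≤ setStab Z := le_setStab_moved C hC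
  have hW : (Finset.univ.filter fun a => ¬ Z a).card < p := by
    by_contra hge
    push Not at hge
    obtain ⟨y, hy, hyc, hyW⟩ := exists_cycle hp.two_le _ hge
    have hyZ : ∀ a, y a ≠ a → ¬ Z a := fun a ha =>
      (Finset.mem_filter.1 (hyW (Perm.mem_support.2 ha))).2
    have hyS : y ∈ setStab Z := by
      rw [mem_setStab]
      intro a
      by_cases ha : y a = a
      · rw [ha]
      · exact ⟨fun h => absurd h (hyZ _ fun h' => ha (y.injective h')),
          fun h => absurd h (hyZ a ha)⟩
    obtain ⟨g, hg, hmem⟩ := exists_conj_elem hHS hpH hyS (k := 1)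
      (by rw [pow_one]; exact cycle_pow_eq_one hy hyc)
    obtain ⟨a, ha⟩ : ∃ a, y a ≠ a := by
      obtain ⟨a, ha, -⟩ := hy; exact ⟨a, ha⟩
    exact hyZ a ha ((mem_setStab.1 hg a).1 ⟨_, hmem, hC g y ⟨hy, hyc⟩, conj_apply_ne ha⟩)
  obtain ⟨c₀, hc₀, hc₀c, -⟩ := exists_cycle (α := α) hr.two_le Finset.univ (by simpa using hrn)
  obtain ⟨g, hg⟩ := exists_conj_mem_top hrH (Q := zpowers c₀)
    (IsPGroup.of_card (n := 1) (by rw [Nat.card_zpowers, hc₀.orderOf, hc₀c, pow_one]))
  set c := g * c₀ * g⁻¹ with hcdef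
  have hcH : c ∈ H := hg c₀ (mem_zpowers _)
  have hcy : c.IsCycle := hc₀.conj
  have hcc : c.support.card = r := by rw [hcdef, Perm.card_support_conj, hc₀c]
  obtain ⟨a, hac, ⟨x, hxH, ⟨hxy, hxc⟩, hxa⟩⟩ : ∃ a, c a ≠ a ∧ Z a := by
    by_contra hno
    push Not at hno
    have hsub : c.support ⊆ Finset.univ.filter fun a => ¬ Z a := fun a ha =>
      Finset.mem_filter.2 ⟨Finset.mem_univ _, hno a (Perm.mem_support.1 ha)⟩
    have := Finset.card_le_card hsub
    omega
  -- restrict to the union of the two supports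
  set P : α → Prop := fun b => x b ≠ b ∨ c b ≠ b with hP
  have hxP : ∀ b, P (x b) ↔ P b := by
    intro b
    by_cases hb : x b = b
    · rw [hb]
    · exact ⟨fun _ => Or.inl hb, fun _ => Or.inl fun h => hb (x.injective h)⟩
  have hcP : ∀ b, P (c b) ↔ P b := by
    intro b
    by_cases hb : c b = b
    · rw [hb]
    · exact ⟨fun _ => Or.inr hb, fun _ => Or.inr fun h => hb (c.injective h)⟩
  set x' : Perm (Subtype P) := x.subtypePerm hxP with hx'
  set c' : Perm (Subtype P) := c.subtypePerm hcP with hc'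
  set K : Subgroup (Perm (Subtype P)) := H.comap (Perm.ofSubtype) with hK
  have hoX : Perm.ofSubtype x' = x := Perm.ofSubtype_subtypePerm _ fun b hb => Or.inl hb
  have hoC : Perm.ofSubtype c' = c := Perm.ofSubtype_subtypePerm _ fun b hb => Or.inr hb
  have hx'K : x' ∈ K := by rw [hK, mem_comap, hoX]; exact hxH
  have hc'K : c' ∈ K := by rw [hK, mem_comap, hoC]; exact hcH
  have hKodd : Odd (Nat.card K) := by
    refine hodd.of_dvd_nat ?_
    rw [← card_map_of_injective (f := Perm.ofSubtype) Perm.ofSubtype_injective (K := K)]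
    exact Subgroup.card_dvd_of_le (map_comap_le _ _)
  set a' : Subtype P := ⟨a, Or.inl hxa⟩ with ha'
  have htrans : MulAction.IsPretransitive K (Subtype P) := by
    refine ⟨fun u v => ?_⟩
    have key : ∀ w : Subtype P, ∃ k : K, k • a' = w := by
      rintro ⟨w, hw⟩
      rcases hw with hw | hw
      · obtain ⟨i, hi⟩ := (Perm.sameCycle_subtypePerm (h := hxP) (x := a') (y := ⟨w, Or.inl hw⟩)).2
          (hxy.sameCycle hxa hw)
        exact ⟨⟨x' ^ i, K.zpow_mem hx'K i⟩, hi⟩
      · obtain ⟨i, hi⟩ := (Perm.sameCycle_subtypePerm (h := hcP) (x := a') (y := ⟨w, Or.inr hw⟩)).2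
          (hcy.sameCycle hac hw)
        exact ⟨⟨c' ^ i, K.zpow_mem hc'K i⟩, hi⟩
    obtain ⟨k₁, hk₁⟩ := key u
    obtain ⟨k₂, hk₂⟩ := key v
    exact ⟨k₂ * k₁⁻¹, by rw [mul_smul, ← hk₁, inv_smul_smul, hk₂]⟩
  have hcard : Nat.card (Subtype P) + 1 ≤ p + r ∧ r ≤ Nat.card (Subtype P) := by
    rw [Nat.card_eq_fintype_card, Fintype.card_subtype]
    have he : (Finset.univ.filter P) = x.support ∪ c.support := by
      ext b; simp [hP, Finset.mem_union]
    rw [he]
    have h1 : (x.support ∩ c.support).Nonempty :=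
      ⟨a, Finset.mem_inter.2 ⟨Perm.mem_support.2 hxa, Perm.mem_support.2 hac⟩⟩
    have h2 := Finset.card_union_add_card_inter x.support c.support
    have h3 := h1.card_pos
    have h4 := Finset.card_le_card (Finset.subset_union_right (s₁ := x.support) (s₂ := c.support))
    omega
  have hprim : MulAction.IsPreprimitive K (Subtype P) := by
    refine { toIsPretransitive := htrans, isTrivialBlock_of_isBlock := fun {B} hB => ?_ }
    rcases B.eq_empty_or_nonempty with rfl | hne
    · exact Or.inl Set.subsingleton_empty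
    obtain ⟨w₀, hw₀⟩ := hne
    obtain ⟨k, hk⟩ := MulAction.exists_smul_eq K w₀ (⟨a, Or.inl hxa⟩ : Subtype P)
    set B' : Set (Subtype P) := k • B with hB'
    have haB' : (⟨a, Or.inl hxa⟩ : Subtype P) ∈ B' := ⟨w₀, hw₀, hk⟩
    have hcnt := hB.ncard_block_mul_ncard_orbit_eq ⟨w₀, hw₀⟩
    have horb : MulAction.orbit K B' = MulAction.orbit K B := MulAction.orbit_smul k B
    have hBcard : B'.ncard = B.ncard := Set.ncard_smul_set k B
    set cK : K := ⟨c', hc'K⟩ with hcK
    have hcr : c' ^ r = 1 := by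
      apply Perm.ofSubtype_injective
      rw [map_pow, hoC, map_one, cycle_pow_eq_one hcy hcc]
    by_cases hfix : cK • B' = B'
    · refine Or.inr ?_
      have hsub : ∀ w, ∀ hw : c w ≠ w, (⟨w, Or.inr hw⟩ : Subtype P) ∈ B' := by
        intro w hw
        obtain ⟨i, hi⟩ := (Perm.sameCycle_subtypePerm (h := hcP) (x := (⟨a, Or.inl hxa⟩ : Subtype P))
          (y := ⟨w, Or.inr hw⟩)).2 (hcy.sameCycle hac hw)
        have hfix' : (cK ^ i) • B' = B' :=
          (MulAction.stabilizer K B').zpow_mem (MulAction.mem_stabilizer_iff.2 hfix) i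
        rw [← hfix']
        exact ⟨_, haB', hi⟩
      have hge : r ≤ B.ncard := by
        rw [← hBcard, ← hcc, ← Set.ncard_coe_finset]
        refine (Set.ncard_le_ncard (t := Subtype.val '' B') ?_).trans
          (Set.ncard_image_le)
        intro w hw
        exact ⟨_, hsub w (Perm.mem_support.1 hw), rfl⟩
      exact MulAction.IsBlock.eq_univ_of_card_lt hB (by omega)
    · refine Or.inl ?_
      have hge : r ≤ (MulAction.orbit K B).ncard := by
        have h1 := MulAction.index_stabilizer (zpowers cK) (x := B')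
        have h2 : (MulAction.stabilizer (zpowers cK) B').index ∣ r := by
          refine (Subgroup.index_dvd_card _).trans ?_
          rw [Nat.card_zpowers]
          exact orderOf_dvd_of_pow_eq_one (Subtype.ext hcr)
        rcases (Nat.dvd_prime hr).1 h2 with h3 | h3
        · exfalso
          rw [Subgroup.index_eq_one] at h3
          have := (h3.symm ▸ mem_top (⟨cK, mem_zpowers cK⟩ : zpowers cK) :
            (⟨cK, mem_zpowers cK⟩ : zpowers cK) ∈ MulAction.stabilizer (zpowers cK) B')
          exact hfix this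
        · rw [← horb, ← h3, h1]
          refine Set.ncard_le_ncard ?_
          rintro _ ⟨⟨z, _⟩, rfl⟩
          exact ⟨z, rfl⟩
      by_contra hns
      have h2B : 2 ≤ B.ncard := by
        rw [Set.not_subsingleton_iff] at hns
        exact (Set.one_lt_ncard (Set.toFinite B)).2 hns
      have := Nat.mul_le_mul h2B hge
      omega
  -- the cycle x' makes the restricted group two-transitive
  obtain ⟨b, hb⟩ : ∃ b : Subtype P, x' b = b := by
    obtain ⟨w, hwc, hwx⟩ : ∃ w, c w ≠ w ∧ x w = w := by
      by_contra hno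
      push Not at hno
      have hsub : c.support ⊆ x.support := fun w hw =>
        Perm.mem_support.2 (hno w (Perm.mem_support.1 hw))
      have := Finset.card_le_card hsub
      omega
    exact ⟨⟨w, Or.inr hwc⟩, Subtype.ext hwx⟩
  have hxcyc : x'.IsCycle := by
    refine ⟨a', fun h => hxa (congrArg Subtype.val h), fun w hw => ?_⟩
    rw [hx', Perm.sameCycle_subtypePerm]
    exact hxy.sameCycle hxa fun h => hw (Subtype.ext h)
  have hs2 : 2 ≤ x'.support.card := hxcyc.two_le_card_support
  have hscompl : 1 ≤ ((x'.support : Set (Subtype P))ᶜ).ncard :=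
    (Set.ncard_pos (Set.toFinite _)).2 ⟨b, by simpa using hb⟩
  obtain ⟨m, hm⟩ : ∃ m, ((x'.support : Set (Subtype P))ᶜ).ncard = m + 1 :=
    ⟨_, (Nat.sub_add_cancel hscompl).symm⟩
  have htot := Set.ncard_add_ncard_compl (x'.support : Set (Subtype P))
  rw [Set.ncard_coe_finset, hm] at htot
  haveI := Perm.isPretransitive_of_isCycle_mem hxcyc hx'K
  have h2t : MulAction.IsMultiplyPretransitive K (Subtype P) 2 :=
    MulAction.IsPreprimitive.is_two_pretransitive hprim hm (by omega) inferInstance
  have hne : a' ≠ b := fun h => hxa (congrArg Subtype.val (h ▸ hb : x' a' = a'))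
  exact (Nat.not_even_iff_odd.2 hKodd) (even_of_two_pretransitive hne h2t)

end Cfsg.Agent.KnownC.AnHall
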