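import Cfsg.Agent.Lib.KnownC.AnHall.Basic
import Cfsg.Agent.Lib.KnownC.AnHall.TwoOdd

/-!
# Hall subgroups of alternating groups come from Hall subgroups of symmetric groups
-/

set_option autoImplicit false

open Equiv Subgroup
open scoped Pointwise

namespace Cfsg.Agent.KnownC.AnHall

variable {α : Type*} [Fintype α] [DecidableEq α] {π : Set ℕ}

lemma alt_index_dvd : (alternatingGroup α).index ∣ 2 := by
  rw [alternatingGroup, index_ker]
  refine (Subgroup.card_subgroup_dvd_card _).trans ?_
  rw [Nat.card_eq_fintype_card, Fintype.card_units_int]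

section Map

variable (M : Subgroup (alternatingGroup α))

lemma card_map_alt : Nat.card (M.map (alternatingGroup α).subtype) = Nat.card M :=
  card_map_of_injective (alternatingGroup α).subtype_injective

lemma index_map_alt : (M.map (alternatingGroup α).subtype).index = M.index * (alternatingGroup α).index := by
  rw [← relIndex_mul_index (map_subtype_le M), relIndex]
  rw [show (M.map (alternatingGroup α).subtype).subgroupOf (alternatingGroup α) = M from
    comap_map_eq_self_of_injective (alternatingGroup α).subtype_injective M]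

lemma subgroupOf_map_alt : (M.map (alternatingGroup α).subtype).subgroupOf (alternatingGroup α) = M :=
  comap_map_eq_self_of_injective (alternatingGroup α).subtype_injective M

lemma not_dvd_index_map {p : ℕ} (hp : p.Prime) (h : ¬ p ∣ M.index) (hp2 : p ≠ 2) :
    ¬ p ∣ (M.map (alternatingGroup α).subtype).index := by
  rw [index_map_alt, hp.dvd_mul]
  rintro (h' | h')
  · exact h h'
  · exact hp2 ((Nat.prime_dvd_prime_iff_eq hp Nat.prime_two).1 (h'.trans alt_index_dvd))

lemma hall_map_of_two_not_mem (hM : IsPiHall π M) (h2 : 2 ∉ π) :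
    IsPiHall π (M.map (alternatingGroup α).subtype) :=
  ⟨fun p hp hd => hM.1 p hp (card_map_alt M ▸ hd),
    fun p hp hpi => not_dvd_index_map M hp (hM.2 p hp hpi) fun h => h2 (h ▸ hpi)⟩

end Map

lemma eq_subgroupOf_of_le {M : Subgroup (alternatingGroup α)} (hM : IsPiHall π M) {M₀ : Subgroup (Perm α)}
    (hle : M.map (alternatingGroup α).subtype ≤ M₀) (hpi : IsPiSubgroup π M₀) : M = M₀.subgroupOf (alternatingGroup α) := by
  refine hall_eq_of_le hM (fun x hx => hle ⟨x, hx, rfl⟩) fun p hp hd => hpi p hp (hd.trans ?_)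
  rw [← card_map_of_injective (f := (alternatingGroup α).subtype) (alternatingGroup α).subtype_injective, subgroupOf_map_subtype]
  exact Subgroup.card_dvd_of_le inf_le_left

/-! ### Three-cycles -/

lemma three_apply {y : Perm α} (hy : y.IsThreeCycle) {b : α} (hb : y b ≠ b) :
    y (y (y b)) = b := by
  have h := congrArg (fun z : Perm α => z b) (pow_orderOf_eq_one y)
  simpa [hy.orderOf, pow_succ, Perm.mul_apply] using h

lemma three_support {y : Perm α} (hy : y.IsThreeCycle) {b : α} (hb : y b ≠ b) {a : α}
    (ha : y a ≠ a) : a = b ∨ a = y b ∨ a = y (y b) := by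
  have h1 : y (y b) ≠ y b := fun h => hb (y.injective h)
  have h2 : y (y b) ≠ b := fun h => by
    have h' := three_apply hy hb; rw [h] at h'; exact hb h'
  have hsub : ({b, y b, y (y b)} : Finset α) ⊆ y.support := by
    intro x hx
    simp only [Finset.mem_insert, Finset.mem_singleton] at hx
    rw [Perm.mem_support]
    rcases hx with rfl | rfl | rfl
    · exact hb
    · exact h1
    · exact fun h => h1 (y.injective h)
  have h3 : ({b, y b, y (y b)} : Finset α).card = 3 :=
    Finset.card_eq_three.2 ⟨b, y b, y (y b), hb.symm, h2.symm, h1.symm, rfl⟩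
  have := Finset.eq_of_subset_of_card_le hsub (by rw [h3, hy.card_support])
  have hm : a ∈ y.support := Perm.mem_support.2 ha
  rw [← this] at hm
  simpa [Finset.mem_insert] using hm

lemma three_ext {x y : Perm α} (hx : x.IsThreeCycle) (hy : y.IsThreeCycle) {a b : α} (hab : a ≠ b)
    (hxa : x a = b) (hya : y a = b) (h : x b = y b) : x = y := by
  have hxa' : x a ≠ a := by rw [hxa]; exact hab.symm
  have hya' : y a ≠ a := by rw [hya]; exact hab.symm
  have hc : x (x b) = a := by rw [← hxa]; exact three_apply hx hxa'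
  have hc' : y (x b) = a := by rw [h, ← hya]; exact three_apply hy hya'
  ext z
  by_cases hz : z = a ∨ z = b ∨ z = x b
  · rcases hz with rfl | rfl | rfl
    · rw [hxa, hya]
    · exact h
    · rw [hc, hc']
  · push Not at hz
    have h1 : x z = z := by
      by_contra hne
      rcases three_support hx hxa' hne with h' | h' | h' <;> rw [hxa] at * <;> simp_all
    have h2 : y z = z := by
      by_contra hne
      rcases three_support hy hya' hne with h' | h' | h' <;> rw [hya] at * <;> simp_all
    rw [h1, h2]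

lemma conj_apply (g x : Perm α) (a : α) : (g * x * g⁻¹) (g a) = g (x a) := by
  simp [Perm.mul_apply]

lemma three_conj {x : Perm α} (hx : x.IsThreeCycle) (g : Perm α) :
    (g * x * g⁻¹).IsThreeCycle := by
  rw [← card_support_eq_three_iff, Perm.card_support_conj, hx.card_support]

/-- Points are related when some three-cycle of `H` maps one to the other. -/
def threeRel (H : Subgroup (Perm α)) : Setoid α where
  r a b := a = b ∨ ∃ x ∈ H, x.IsThreeCycle ∧ x a = b
  iseqv := by
    refine ⟨fun a => Or.inl rfl, ?_, ?_⟩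
    · rintro a b (rfl | ⟨x, hx, hx3, rfl⟩)
      · exact Or.inl rfl
      · exact Or.inr ⟨x⁻¹, H.inv_mem hx, hx3.inv, x.symm_apply_apply a⟩
    · rintro a b d (rfl | ⟨x, hx, hx3, hxa⟩) hbd
      · exact hbd
      rcases hbd with rfl | ⟨y, hy, hy3, hyb⟩
      · exact Or.inr ⟨x, hx, hx3, hxa⟩
      by_cases had : a = d
      · exact Or.inl had
      right
      by_cases hbd' : b = d
      · exact ⟨x, hx, hx3, hxa.trans hbd'⟩
      by_cases hya : y a = a
      · refine ⟨y * x * y⁻¹, H.mul_mem (H.mul_mem hy hx) (H.inv_mem hy), three_conj hx3 y, ?_⟩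
        have := conj_apply y x a
        rw [hya, hxa, hyb] at this; exact this
      · by_cases hab : a = b
        · exact ⟨y, hy, hy3, hab ▸ hyb⟩
        have hbne : y b ≠ b := fun h => hbd' (h.symm.trans hyb)
        rcases three_support hy3 hbne hya with h | h | h
        · exact absurd h hab
        · exact absurd (h.trans hyb) had
        · refine ⟨y⁻¹ * 1, by rw [mul_one]; exact H.inv_mem hy, by rw [mul_one]; exact hy3.inv, ?_⟩
          rw [mul_one, h, ← hyb]
          exact y.symm_apply_apply _

lemma le_stabN_threeRel (H : Subgroup (Perm α)) : H ≤ stabN (threeRel H) := by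
  have key : ∀ g ∈ H, ∀ a b, (threeRel H).r a b → (threeRel H).r (g a) (g b) := by
    rintro g hg a b (rfl | ⟨x, hx, hx3, rfl⟩)
    · exact Or.inl rfl
    · exact Or.inr ⟨_, H.mul_mem (H.mul_mem hg hx) (H.inv_mem hg), three_conj hx3 g, conj_apply g x a⟩
  intro g hg a b
  refine ⟨fun h => ?_, key g hg a b⟩
  have := key g⁻¹ (H.inv_mem hg) _ _ h
  rwa [show g⁻¹ (g a) = a from g.symm_apply_apply a, show g⁻¹ (g b) = b from g.symm_apply_apply b]
    at this

lemma three_mem_of_class (H : Subgroup (Perm α)) {z : Perm α} (hz : z.IsThreeCycle) {a : α}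
    (ha : z a ≠ a) (h1 : (threeRel H).r a (z a)) (h2 : (threeRel H).r a (z (z a))) : z ∈ H := by
  set b := z a with hb
  set d := z b with hd
  have hab : a ≠ b := fun h => ha h.symm
  have hda : d ≠ a := fun h => by
    have h' := three_apply hz (show z a ≠ a from ha)
    rw [← hb, ← hd, h] at h'; exact ha (hb ▸ h')
  have hdb : d ≠ b := fun h => hab.symm (z.injective (hd.symm.trans (h.trans hb)))
  rcases h1 with h1 | ⟨x, hx, hx3, hxa⟩
  · exact absurd h1 hab
  set c := x b with hc
  have hxa' : x a ≠ a := by rw [hxa]; exact hab.symm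
  have hxc : x c = a := by rw [hc, ← hxa]; exact three_apply hx3 hxa'
  suffices h : ∃ w ∈ H, w.IsThreeCycle ∧ w a = b ∧ w b = d by
    obtain ⟨w, hw, hw3, hwa, hwb⟩ := h
    rwa [three_ext hz hw3 hab rfl hwa hwb.symm]
  by_cases hcd : c = d
  · exact ⟨x, hx, hx3, hxa, hcd⟩
  have hcb : c ≠ b := fun h => hab.symm (x.injective (hc.symm.trans (h.trans hxa.symm)))
  have hca : c ≠ a := fun h => by rw [h] at hxc; exact hxa' hxc
  have hxd : x d = d := by
    by_contra hne
    rcases three_support hx3 hxa' hne with h | h | h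
    · exact hda h
    · exact hdb (h.trans hxa)
    · rw [hxa] at h; exact hcd h.symm
  have hcd' : (threeRel H).r c d :=
    (threeRel H).trans' ((threeRel H).symm' ((threeRel H).trans'
      (Or.inr ⟨x, hx, hx3, hxa⟩) (Or.inr ⟨x, hx, hx3, hc.symm⟩))) h2
  rcases hcd' with h | ⟨y, hy, hy3, hyc⟩
  · exact absurd h hcd
  have hyc' : y c ≠ c := by rw [hyc]; exact Ne.symm hcd
  -- the case of a three-cycle `c → d → a`
  have finish : ∀ y ∈ H, y.IsThreeCycle → y c = d → y d = a →
      ∃ w ∈ H, w.IsThreeCycle ∧ w a = b ∧ w b = d := by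
    intro y hy hy3 h1 h2
    refine ⟨(x * y * x⁻¹)⁻¹, H.inv_mem (H.mul_mem (H.mul_mem hx hy) (H.inv_mem hx)),
      (three_conj hy3 x).inv, ?_, ?_⟩
    · rw [Perm.inv_def, Equiv.symm_apply_eq]
      have h3 : y a = c := by
        rw [← h2, ← h1]; exact three_apply hy3 (by rw [h1]; exact Ne.symm hcd)
      have := conj_apply x y a
      rw [hxa, h3, hxc] at this; exact this.symm
    · rw [Perm.inv_def, Equiv.symm_apply_eq]
      have := conj_apply x y d
      rw [hxd, h2, hxa] at this; exact this.symm
  by_cases hya : y a = a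
  · by_cases hyb : y b = b
    · refine ⟨y * x * y⁻¹, H.mul_mem (H.mul_mem hy hx) (H.inv_mem hy), three_conj hx3 y, ?_, ?_⟩
      · have := conj_apply y x a; rwa [hya, hxa, hyb] at this
      · have := conj_apply y x b; rwa [hyb, ← hc, hyc] at this
    · rcases three_support hy3 hyc' hyb with h | h | h
      · exact absurd h hcb.symm
      · exact absurd (h.trans hyc) hdb.symm
      · have h4 : y b = c := by rw [h]; exact three_apply hy3 hyc'
        rw [hyc] at h
        refine finish (x * y * x⁻¹)⁻¹ (H.inv_mem (H.mul_mem (H.mul_mem hx hy) (H.inv_mem hx)))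
          (three_conj hy3 x).inv ?_ ?_
        · rw [Perm.inv_def, Equiv.symm_apply_eq]
          have := conj_apply x y d
          rw [hxd, ← h, ← hc] at this; exact this.symm
        · rw [Perm.inv_def, Equiv.symm_apply_eq]
          have := conj_apply x y c
          rw [hxc, hyc, hxd] at this; exact this.symm
  · rcases three_support hy3 hyc' hya with h | h | h
    · exact absurd h hca.symm
    · exact absurd (h.trans hyc) hda.symm
    · exact finish y hy hy3 hyc (by rw [hyc] at h; exact h.symm)

/-- **Hall subgroups of `A_n` with `2, 3 ∈ π` extend to `S_n`.** -/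
theorem exists_sym_hall {M : Subgroup (alternatingGroup α)} (hM : IsPiHall π M) (h2 : 2 ∈ π) (h3 : 3 ∈ π)
    (hn : 3 ≤ Fintype.card α) :
    ∃ M₀ : Subgroup (Perm α), IsPiHall π M₀ ∧ M = M₀.subgroupOf (alternatingGroup α) := by
  classical
  set H := M.map (alternatingGroup α).subtype with hH
  set s := threeRel H with hs
  set L := stabN s with hL
  have hHL : H ≤ L := le_stabN_threeRel H
  have hHpi : IsPiSubgroup π H := fun p hp hd => hM.1 p hp (card_map_alt M ▸ hd)
  have hclass : ∀ (q : Quotient s) (p : ℕ), p.Prime → p ≤ classSize s q → p ∈ π := by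
    intro q p hp hpc
    by_cases hp2 : p = 2
    · subst hp2; exact h2
    induction q using Quotient.inductionOn with
    | h a =>
      rw [classSize_mk] at hpc
      let P : α → Prop := fun b => s.r b a
      set K := H.comap (Perm.ofSubtype (p := P)) with hK
      have hle : alternatingGroup {b // P b} ≤ K := by
        rw [← Perm.closure_three_cycles_eq_alternating, closure_le]
        intro σ (hσ : σ.IsThreeCycle)
        rw [SetLike.mem_coe, hK, mem_comap]
        obtain ⟨u, hu⟩ : ∃ u, σ u ≠ u := by
          obtain ⟨u, hu, -⟩ := hσ.isCycle; exact ⟨u, hu⟩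
        refine three_mem_of_class H (a := (u : α)) ?_ ?_ ?_ ?_
        · rw [← card_support_eq_three_iff, Perm.support_ofSubtype, Finset.card_map, hσ.card_support]
        · rw [Perm.ofSubtype_apply_coe]; exact fun h => hu (Subtype.ext h)
        · rw [Perm.ofSubtype_apply_coe]; exact s.trans' u.2 (s.symm' (σ u).2)
        · rw [Perm.ofSubtype_apply_coe, Perm.ofSubtype_apply_coe]
          exact s.trans' u.2 (s.symm' (σ (σ u)).2)
      refine hHpi p hp ?_
      have hne : Nontrivial {b // P b} := by
        rw [← Fintype.one_lt_card_iff_nontrivial, ← Nat.card_eq_fintype_card]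
        exact lt_of_lt_of_le hp.one_lt hpc
      have hd : p ∣ 2 * Nat.card (alternatingGroup {b // P b}) := by
        rw [two_mul_nat_card_alternatingGroup, Nat.card_perm]
        exact hp.dvd_factorial.2 hpc
      have hd' := (hp.dvd_mul.1 hd).resolve_left
        fun h => hp2 ((Nat.prime_dvd_prime_iff_eq hp Nat.prime_two).1 h)
      refine hd'.trans ((Subgroup.card_dvd_of_le hle).trans ?_)
      rw [← card_map_of_injective (f := Perm.ofSubtype (p := P)) Perm.ofSubtype_injective (K := K)]
      exact Subgroup.card_dvd_of_le (map_comap_le _ _)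
  set M₁ : Subgroup L := H.subgroupOf L ⊔ (classHom s).ker with hM₁
  have hkerK : Nat.card (classHom s).ker ∣ Nat.card (stabK s) := by
    refine dvd_of_eq (Nat.card_congr
      { toFun := fun x => ⟨(x.1 : Perm α), fun a => ?_⟩
        invFun := fun y => ⟨⟨y.1, stabK_le_stabN s y.2⟩, ?_⟩
        left_inv := fun x => rfl
        right_inv := fun y => rfl })
    · have h := x.2
      rw [MonoidHom.mem_ker] at h
      exact Quotient.exact (by rw [← classHom_mk, h]; rfl)
    · rw [MonoidHom.mem_ker]
      ext c; induction c using Quotient.inductionOn with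
      | h a => exact Quotient.sound (y.2 a)
  have hM₁pi : IsPiSubgroup π M₁ := by
    intro p hp hd
    have hcard : Nat.card M₁ ∣ Nat.card (classHom s).ker * Nat.card (H.subgroupOf L) := by
      rw [← card_mul_index ((classHom s).ker.subgroupOf M₁), card_subgroupOf le_sup_right]
      refine mul_dvd_mul_left _ ?_
      show (classHom s).ker.relIndex M₁ ∣ _
      rw [hM₁, relIndex_sup_right, ← card_mul_index ((classHom s).ker.subgroupOf (H.subgroupOf L))]
      exact Dvd.intro_left _ rfl
    rcases hp.dvd_mul.1 (hd.trans hcard) with h | h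
    · have h' := h.trans hkerK
      rw [card_stabK, hp.prime.dvd_finsetProd_iff] at h'
      obtain ⟨c, -, hc⟩ := h'
      exact hclass c p hp (hp.dvd_factorial.1 hc)
    · exact hHpi p hp (by rwa [card_subgroupOf hHL] at h)
  set M₀ := M₁.map L.subtype with hM₀
  have hM₀pi : IsPiSubgroup π M₀ := fun p hp hd =>
    hM₁pi p hp (by rwa [hM₀, card_map_of_injective L.subtype_injective] at hd)
  have hle : H ≤ M₀ := fun x hx => ⟨⟨x, hHL hx⟩, mem_sup_left hx, rfl⟩
  have hMeq : M = M₀.subgroupOf (alternatingGroup α) := eq_subgroupOf_of_le hM hle hM₀pi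
  -- an odd element
  haveI := Fact.mk Nat.prime_three
  obtain ⟨σ, hσ, hσc, -⟩ := exists_cycle (α := α) (p := 3) (by norm_num) Finset.univ (by simpa using hn)
  obtain ⟨g, -, hg⟩ := exists_conj_elem (S := ⊤) (H := H) le_top
    (not_dvd_index_map M Nat.prime_three (hM.2 3 Nat.prime_three h3) (by norm_num)) (mem_top σ)
    (k := 1) (by rw [pow_one]; exact cycle_pow_eq_one hσ hσc)
  have hτ3 : (g * σ * g⁻¹).IsThreeCycle := three_conj (card_support_eq_three_iff.1 hσc) g
  obtain ⟨u, hu, -⟩ := hτ3.isCycle
  set v := (g * σ * g⁻¹) u with hv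
  have huv : s.r u v := Or.inr ⟨_, hg, hτ3, rfl⟩
  have hswap : swap u v ∈ stabK s := by
    intro a
    rcases eq_or_ne a u with rfl | h1
    · rw [swap_apply_left]; exact s.symm' huv
    rcases eq_or_ne a v with rfl | h2
    · rw [swap_apply_right]; exact huv
    · rw [swap_apply_of_ne_of_ne h1 h2]
  have hswapM : swap u v ∈ M₀ := by
    refine ⟨⟨swap u v, stabK_le_stabN s hswap⟩, mem_sup_right ?_, rfl⟩
    rw [MonoidHom.mem_ker]
    ext c; induction c using Quotient.inductionOn with
    | h a => exact Quotient.sound (hswap a)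
  have hsplit : (alternatingGroup α).relIndex M₀ = 2 ∧ (alternatingGroup α).index = 2 := by
    have hne : (alternatingGroup α).relIndex M₀ ≠ 1 := by
      rw [Ne, relIndex_eq_one]
      intro hcon
      have := hcon hswapM
      rw [Perm.mem_alternatingGroup, Perm.sign_swap (Ne.symm hu)] at this
      exact absurd this (by decide)
    have hd := ((relIndex_dvd_index_of_normal (alternatingGroup α) M₀).trans alt_index_dvd)
    have h2' := ((Nat.dvd_prime Nat.prime_two).1 hd).resolve_left hne
    exact ⟨h2', Nat.dvd_antisymm alt_index_dvd (h2' ▸ relIndex_dvd_index_of_normal (alternatingGroup α) M₀)⟩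
  refine ⟨M₀, ⟨hM₀pi, fun p hp hpi hd => hM.2 p hp hpi ?_⟩, hMeq⟩
  have h1 : (M₀ ⊓ (alternatingGroup α)).relIndex (alternatingGroup α) * (alternatingGroup α).index = (M₀ ⊓ (alternatingGroup α)).index := relIndex_mul_index inf_le_right
  have h2' : (M₀ ⊓ (alternatingGroup α)).relIndex M₀ * M₀.index = (M₀ ⊓ (alternatingGroup α)).index := relIndex_mul_index inf_le_left
  rw [inf_relIndex_right, hsplit.2] at h1
  rw [inf_relIndex_left, hsplit.1] at h2'
  have he : M₀.index = M₀.relIndex (alternatingGroup α) := by omega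
  rw [he] at hd
  rwa [hMeq]

/-! ### No `{2, p}` Hall subgroups with `3 ∉ π` -/

lemma three_dvd_orderOf {G β : Type*} [Group G] [MulAction G β] {z : G} {a b c : β}
    (h1 : z • a = b) (h2 : z • b = c) (h3 : z • c = a) (hab : a ≠ b) (hac : a ≠ c) :
    3 ∣ orderOf z := by
  have hfix : ∀ j : ℕ, z ^ (3 * j) • a = a := by
    intro j
    induction j with
    | zero => simp
    | succ j ih => rw [show 3 * (j + 1) = 3 * j + 1 + 1 + 1 by ring, pow_succ, mul_smul, h1,
        pow_succ, mul_smul, h2, pow_succ, mul_smul, h3, ih]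
  have hm : z ^ (orderOf z % 3) • a = a := by
    conv_rhs => rw [← one_smul G a, ← pow_orderOf_eq_one z, ← Nat.mod_add_div (orderOf z) 3,
      pow_add, mul_smul, hfix]
  rcases (show orderOf z % 3 = 0 ∨ orderOf z % 3 = 1 ∨ orderOf z % 3 = 2 by omega) with h | h | h
  · exact Nat.dvd_of_mod_eq_zero h
  · rw [h, pow_one, h1] at hm; exact absurd hm.symm hab
  · rw [h, pow_two, mul_smul, h1, h2] at hm; exact absurd hm.symm hac

/-- The double transposition. -/
def dswap (a b c d : α) : Perm α := swap a b * swap c d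

/-- (alternatingGroup α) Klein four-group of `H` on four points. -/
def Klein (H : Subgroup (Perm α)) (a b c d : α) : Prop :=
  [a, b, c, d].Nodup ∧ dswap a b c d ∈ H ∧ dswap a c b d ∈ H

lemma dswap_comm {a b c d : α} (h : [a, b, c, d].Nodup) : dswap c d a b = dswap a b c d := by
  simp only [List.nodup_cons, List.mem_cons, List.not_mem_nil, or_false, not_or] at h
  unfold dswap
  exact (Equiv.Perm.Disjoint.commute (Perm.disjoint_iff_disjoint_support.2 (by
    rw [Perm.support_swap (Ne.intro h.2.2.1), Perm.support_swap (Ne.intro h.1.1)]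
    simp [Finset.disjoint_left]; tauto))).eq

lemma dswap_sq {a b c d : α} (h : [a, b, c, d].Nodup) : dswap a b c d * dswap a b c d = 1 := by
  nth_rewrite 2 [← dswap_comm h]
  unfold dswap
  rw [mul_assoc, ← mul_assoc (swap c d), swap_mul_self, one_mul, swap_mul_self]

lemma dswap_conj (g : Perm α) (a b c d : α) :
    g * dswap a b c d * g⁻¹ = dswap (g a) (g b) (g c) (g d) := by
  unfold dswap
  rw [swap_apply_apply, swap_apply_apply]
  group

lemma dswap_prod {a b c d : α} (h : [a, b, c, d].Nodup) :
    dswap a b c d * dswap a c b d = dswap a d b c := by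
  simp only [List.nodup_cons, List.mem_cons, List.not_mem_nil, or_false, not_or] at h
  ext z
  simp only [dswap, Perm.mul_apply, swap_apply_def]
  split_ifs <;> aesop

lemma klein_swap {H : Subgroup (Perm α)} {a b c d : α} (h : Klein H a b c d) :
    Klein H b a d c ∧ Klein H c d a b := by
  obtain ⟨hn, h1, h2⟩ := h
  have hn' := hn
  simp only [List.nodup_cons, List.mem_cons, List.not_mem_nil, or_false, not_or] at hn
  have e1 : dswap b a d c = dswap a b c d := by unfold dswap; rw [swap_comm b a, swap_comm d c]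
  have e2 : dswap b d a c = dswap a c b d :=
    dswap_comm (by simp [List.nodup_cons]; tauto)
  refine ⟨⟨by simp [List.nodup_cons]; tauto, e1 ▸ h1, e2 ▸ h2⟩,
    ⟨by simp [List.nodup_cons]; tauto, dswap_comm hn' ▸ h1, ?_⟩⟩
  have e3 : dswap c a d b = dswap a c b d := by unfold dswap; rw [swap_comm c a, swap_comm d b]
  exact e3 ▸ h2

/-- The points of the four-groups. -/
def InKlein (H : Subgroup (Perm α)) (a : α) : Prop := ∃ b c d, Klein H a b c d

lemma inKlein_all {H : Subgroup (Perm α)} {a b c d : α} (h : Klein H a b c d) :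
    InKlein H b ∧ InKlein H c ∧ InKlein H d :=
  ⟨⟨_, _, _, (klein_swap h).1⟩, ⟨_, _, _, (klein_swap h).2⟩,
    ⟨_, _, _, (klein_swap (klein_swap h).2).1⟩⟩

lemma klein_conj {H : Subgroup (Perm α)} {g : Perm α} {a b c d : α} (hg : g ∈ H)
    (h : Klein H a b c d) : Klein H (g a) (g b) (g c) (g d) := by
  obtain ⟨hn, h1, h2⟩ := h
  exact ⟨hn.map g.injective, dswap_conj g a b c d ▸ H.mul_mem (H.mul_mem hg h1) (H.inv_mem hg),
    dswap_conj g a c b d ▸ H.mul_mem (H.mul_mem hg h2) (H.inv_mem hg)⟩

lemma klein_mover {H : Subgroup (Perm α)} {a b c d : α} (h : Klein H a b c d) {s : α}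
    (hs : s = b ∨ s = c ∨ s = d) :
    ∃ x ∈ H, x a = s ∧ x s = a ∧ ∀ t, t ∉ ({a, b, c, d} : Finset α) → x t = t := by
  obtain ⟨hn, h1, h2⟩ := h
  have hn' := hn
  simp only [List.nodup_cons, List.mem_cons, List.not_mem_nil, or_false, not_or] at hn
  have hfix : ∀ {u v w z t : α}, t ≠ u → t ≠ v → t ≠ w → t ≠ z → dswap u v w z t = t := by
    intro u v w z t hu hv hw hz
    rw [dswap, Perm.mul_apply, swap_apply_of_ne_of_ne hw hz, swap_apply_of_ne_of_ne hu hv]
  rcases hs with rfl | rfl | rfl
  · refine ⟨_, h1, ?_, ?_, fun t ht => hfix ?_ ?_ ?_ ?_⟩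
    all_goals first
      | (simp only [Finset.mem_insert, Finset.mem_singleton, not_or] at ht; tauto)
      | (simp only [dswap, Perm.mul_apply, swap_apply_def]; split_ifs <;> aesop)
  · refine ⟨_, h2, ?_, ?_, fun t ht => hfix ?_ ?_ ?_ ?_⟩
    all_goals first
      | (simp only [Finset.mem_insert, Finset.mem_singleton, not_or] at ht; tauto)
      | (simp only [dswap, Perm.mul_apply, swap_apply_def]; split_ifs <;> aesop)
  · refine ⟨_, dswap_prod hn' ▸ H.mul_mem h1 h2, ?_, ?_, fun t ht => hfix ?_ ?_ ?_ ?_⟩
    all_goals first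
      | (simp only [Finset.mem_insert, Finset.mem_singleton, not_or] at ht; tauto)
      | (simp only [dswap, Perm.mul_apply, swap_apply_def]; split_ifs <;> aesop)

/-- Two four-groups sharing a point have the same points, unless `3` divides the order. -/
lemma klein_eq {H : Subgroup (Perm α)} (h3 : ¬ 3 ∣ Nat.card H) {a b c d f h i : α}
    (h1 : Klein H a b c d) (h2 : Klein H a f h i) :
    ({a, b, c, d} : Finset α) = {a, f, h, i} := by
  have hcard : ∀ {a b c d : α}, [a, b, c, d].Nodup → ({a, b, c, d} : Finset α).card = 4 := by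
    intro a b c d hn
    simp only [List.nodup_cons, List.mem_cons, List.not_mem_nil, or_false, not_or] at hn
    rw [Finset.card_insert_of_notMem (by simp; tauto), Finset.card_insert_of_notMem (by simp; tauto),
      Finset.card_insert_of_notMem (by simp; tauto), Finset.card_singleton]
  by_contra hne
  obtain ⟨s, hs, hs'⟩ : ∃ s ∈ ({a, b, c, d} : Finset α), s ∉ ({a, f, h, i} : Finset α) := by
    by_contra hno
    push Not at hno
    exact hne (Finset.eq_of_subset_of_card_le hno (by rw [hcard h1.1, hcard h2.1]))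
  obtain ⟨t, ht, ht'⟩ : ∃ t ∈ ({a, f, h, i} : Finset α), t ∉ ({a, b, c, d} : Finset α) := by
    by_contra hno
    push Not at hno
    exact hne (Finset.eq_of_subset_of_card_le hno (by rw [hcard h1.1, hcard h2.1])).symm
  have hsa : s ≠ a := fun e => hs' (by rw [e]; exact Finset.mem_insert_self a _)
  have hta : t ≠ a := fun e => ht' (by rw [e]; exact Finset.mem_insert_self a _)
  simp only [Finset.mem_insert, Finset.mem_singleton] at hs ht
  obtain ⟨x, hx, hxa, hxs, hxfix⟩ := klein_mover h1 (hs.resolve_left hsa)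
  obtain ⟨y, hy, hya, hyt, hyfix⟩ := klein_mover h2 (ht.resolve_left hta)
  apply h3
  have hd : 3 ∣ orderOf (x * y) := by
    refine three_dvd_orderOf (a := a) (b := t) (c := s) ?_ ?_ ?_ hta.symm hsa.symm
    · rw [Perm.smul_def, Perm.mul_apply, hya]; exact hxfix t ht'
    · rw [Perm.smul_def, Perm.mul_apply, hyt, hxa]
    · rw [Perm.smul_def, Perm.mul_apply, hyfix s hs', hxs]
  refine hd.trans ?_
  rw [← Subgroup.orderOf_mk (⟨x * y, H.mul_mem hx hy⟩ : H).1 (H.mul_mem hx hy)]
  exact orderOf_dvd_natCard _

theorem false_of_two_no_three {M : Subgroup (alternatingGroup α)} (hM : IsPiHall π M) (h2 : 2 ∈ π) (h3 : 3 ∉ π)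
    {p : ℕ} (hp : p.Prime) (hpi : p ∈ π) (hp5 : 5 ≤ p) (hpn : p ≤ Fintype.card α) : False := by
  classical
  haveI := Fact.mk hp
  haveI := Fact.mk Nat.prime_two
  set H := M.map (alternatingGroup α).subtype with hH
  have h3H : ¬ 3 ∣ Nat.card H := fun h => h3 (hM.1 3 Nat.prime_three (card_map_alt M ▸ h))
  have hHS : H ≤ setStab (InKlein H) := by
    intro g hg
    rw [mem_setStab]
    intro a
    constructor
    · rintro ⟨b, c, d, h⟩
      have := klein_conj (H.inv_mem hg) h
      rw [show g⁻¹ (g a) = a from g.symm_apply_apply a] at this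
      exact ⟨_, _, _, this⟩
    · rintro ⟨b, c, d, h⟩
      exact ⟨_, _, _, klein_conj hg h⟩
  have hW : (Finset.univ.filter fun a => ¬ InKlein H a).card < 4 := by
    by_contra hge
    push Not at hge
    obtain ⟨T, hTW, hT⟩ := Finset.exists_subset_card_eq hge
    obtain ⟨l, hl⟩ : ∃ l, T.toList = l := ⟨_, rfl⟩
    have hlen : l.length = 4 := by rw [← hl, Finset.length_toList, hT]
    have hnd : l.Nodup := hl ▸ T.nodup_toList
    match l, hlen, hnd with
    | [a, b, c, d], _, hn => ?_
    have hout : ∀ z ∈ [a, b, c, d], ¬ InKlein H z := fun z hz =>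
      (Finset.mem_filter.1 (hTW (Finset.mem_toList.1 (by rw [hl]; exact hz)))).2
    have hn' := hn
    simp only [List.nodup_cons, List.mem_cons, List.not_mem_nil, or_false, not_or] at hn'
    set x := dswap a b c d with hx
    set y := dswap a c b d with hy
    have hxx : x * x = 1 := dswap_sq hn
    have hn2 : [a, c, b, d].Nodup := by simp [List.nodup_cons]; tauto
    have hyy : y * y = 1 := dswap_sq hn2
    have hxy : x * y = y * x := by
      rw [hx, hy, dswap_prod hn, dswap_prod hn2]
      unfold dswap; rw [swap_comm c b]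
    let V : Subgroup (Perm α) :=
      { carrier := {z | z = 1 ∨ z = x ∨ z = y ∨ z = x * y}
        one_mem' := Or.inl rfl
        inv_mem' := fun {z} hz => by
          have : z⁻¹ = z := by
            rw [inv_eq_iff_mul_eq_one]
            rcases hz with rfl | rfl | rfl | rfl
            · exact one_mul 1
            · exact hxx
            · exact hyy
            · rw [mul_assoc, ← mul_assoc y, ← hxy, mul_assoc x, hyy, mul_one, hxx]
          rw [Set.mem_ofPred_eq, this]; exact hz
        mul_mem' := fun {z w} hz hw => by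
          have c1 : x * (x * y) = y := by rw [← mul_assoc, hxx, one_mul]
          have c2 : y * (x * y) = x := by rw [hxy, ← mul_assoc, hyy, one_mul]
          have c3 : x * y * x = y := by rw [hxy, mul_assoc, hxx, mul_one]
          have c4 : x * y * y = x := by rw [mul_assoc, hyy, mul_one]
          have c5 : x * y * (x * y) = 1 := by rw [mul_assoc, c2, hxx]
          rcases hz with rfl | rfl | rfl | rfl <;> rcases hw with rfl | rfl | rfl | rfl <;>
            simp [hxx, hyy, c1, c2, c3, c4, c5, hxy.symm] }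
    have hV : IsPGroup 2 V := fun z => ⟨1, Subtype.ext (by
      rw [pow_one, pow_two]
      rcases z.2 with h | h | h | h <;> simp only [Subgroup.coe_mul, Subgroup.coe_one, h]
      · exact one_mul 1
      · exact hxx
      · exact hyy
      · rw [mul_assoc, ← mul_assoc y, ← hxy, mul_assoc x, hyy, mul_one, hxx])⟩
    have hVS : V ≤ setStab (InKlein H) := by
      have hgen : ∀ u v w z : α, ¬ InKlein H u → ¬ InKlein H v → ¬ InKlein H w → ¬ InKlein H z →
          dswap u v w z ∈ setStab (InKlein H) := by
        intro u v w z hu hv hw hz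
        rw [mem_setStab]
        intro t
        simp only [dswap, Perm.mul_apply, swap_apply_def]
        split_ifs <;> aesop
      have hxS : x ∈ setStab (InKlein H) := hgen a b c d (hout a (by simp)) (hout b (by simp))
        (hout c (by simp)) (hout d (by simp))
      have hyS : y ∈ setStab (InKlein H) := hgen a c b d (hout a (by simp)) (hout c (by simp))
        (hout b (by simp)) (hout d (by simp))
      rintro z (rfl | rfl | rfl | rfl)
      exacts [one_mem _, hxS, hyS, mul_mem hxS hyS]
    -- conjugate inside the stabiliser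
    have hVA : V ≤ (alternatingGroup α) := by
      have hd : ∀ {u v w z : α}, u ≠ v → w ≠ z → dswap u v w z ∈ (alternatingGroup α) := by
        intro u v w z h h'
        rw [Perm.mem_alternatingGroup, dswap, map_mul, Perm.sign_swap h, Perm.sign_swap h']; rfl
      rintro z (rfl | rfl | rfl | rfl)
      exacts [one_mem _, hd hn'.1.1 hn'.2.2.1, hd hn'.1.2.1 hn'.2.1.2,
        mul_mem (hd hn'.1.1 hn'.2.2.1) (hd hn'.1.2.1 hn'.2.1.2)]
    have hMS : M ≤ (setStab (InKlein H)).subgroupOf (alternatingGroup α) := fun m hm => hHS ⟨m, hm, rfl⟩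
    obtain ⟨g, hg, hmem⟩ := exists_conj_mem hMS (hM.2 2 Nat.prime_two h2)
      (Q := V.subgroupOf (alternatingGroup α)) (fun z hz => hVS hz)
      (hV.of_injective (subgroupOfEquivOfLe hVA).toMonoidHom (MulEquiv.injective _))
    have hconj : ∀ z, ∀ hz : z ∈ V, (g : Perm α) * z * (g : Perm α)⁻¹ ∈ H := fun z hz =>
      ⟨_, hmem ⟨z, hVA hz⟩ hz, rfl⟩
    have hK : Klein H ((g : Perm α) a) ((g : Perm α) b) ((g : Perm α) c) ((g : Perm α) d) :=
      ⟨hn.map (g : Perm α).injective, dswap_conj _ a b c d ▸ hconj x (Or.inr (Or.inl rfl)),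
        dswap_conj _ a c b d ▸ hconj y (Or.inr (Or.inr (Or.inl rfl)))⟩
    exact hout a (by simp) ((mem_setStab.1 hg a).1 ⟨_, _, _, hK⟩)
  obtain ⟨c₀, hc₀, hc₀c, -⟩ := exists_cycle (α := α) hp.two_le Finset.univ (by simpa using hpn)
  obtain ⟨k, hk⟩ := exists_conj_mem_top (not_dvd_index_map M hp (hM.2 p hp hpi) (by omega))
    (Q := zpowers c₀) (IsPGroup.of_card (n := 1) (by rw [Nat.card_zpowers, hc₀.orderOf, hc₀c, pow_one]))
  set g := k * c₀ * k⁻¹ with hgdef
  have hgH : g ∈ H := hk c₀ (mem_zpowers _)
  have hgy : g.IsCycle := hc₀.conj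
  have hgc : g.support.card = p := by rw [hgdef, Perm.card_support_conj, hc₀c]
  obtain ⟨a, hga, b, c, d, hK⟩ : ∃ a, g a ≠ a ∧ InKlein H a := by
    by_contra hno
    push Not at hno
    have hsub : g.support ⊆ Finset.univ.filter fun a => ¬ InKlein H a := fun a ha =>
      Finset.mem_filter.2 ⟨Finset.mem_univ _, hno a (Perm.mem_support.1 ha)⟩
    have := Finset.card_le_card hsub
    omega
  set U : Finset α := {a, b, c, d} with hU
  have hUK : ∀ u ∈ U, ∃ u₁ u₂ u₃, Klein H u u₁ u₂ u₃ ∧ U = {u, u₁, u₂, u₃} := by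
    intro u hu
    simp only [hU, Finset.mem_insert, Finset.mem_singleton] at hu
    rcases hu with rfl | rfl | rfl | rfl
    · exact ⟨_, _, _, hK, rfl⟩
    · exact ⟨_, _, _, (klein_swap hK).1, by ext; simp [hU]; tauto⟩
    · exact ⟨_, _, _, (klein_swap hK).2, by ext; simp [hU]; tauto⟩
    · exact ⟨_, _, _, (klein_swap (klein_swap hK).2).1, by ext; simp [hU]; tauto⟩
  have hmove : ∀ (z : Perm α), z ∈ H → ∀ u ∈ U, z u ∈ U → ∀ v ∈ U, z v ∈ U := by
    intro z hz u hu hzu v hv
    obtain ⟨u₁, u₂, u₃, hKu, hUu⟩ := hUK u hu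
    obtain ⟨w₁, w₂, w₃, hKw, hUw⟩ := hUK (z u) hzu
    have he := klein_eq h3H (klein_conj hz hKu) hKw
    rw [hUw, ← he]
    rw [hUu] at hv
    simp only [Finset.mem_insert, Finset.mem_singleton] at hv ⊢
    rcases hv with rfl | rfl | rfl | rfl <;> simp
  -- `g` cannot preserve `U`
  have hstab : ¬ ∀ v ∈ U, g v ∈ U := by
    intro hall
    have hsub : g.support ⊆ U := by
      intro w hw
      obtain ⟨i, rfl⟩ := (hgy.sameCycle hga (Perm.mem_support.1 hw)).exists_nat_pow_eq
      clear hw
      induction i with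
      | zero => simp [hU]
      | succ i ih => rw [pow_succ', Perm.mul_apply]; exact hall _ ih
    have h1 := Finset.card_le_card hsub
    have h2 : U.card ≤ 4 := Finset.card_le_four
    omega
  have hba : b ≠ a := by
    have := hK.1
    simp only [List.nodup_cons, List.mem_cons, not_or] at this
    exact Ne.symm this.1.1
  by_cases hgb : g b = b
  · exact hstab (hmove g hgH b (by simp [hU]) (by simp [hU, hgb]))
  obtain ⟨i, hi⟩ := (hgy.sameCycle hga hgb).exists_nat_pow_eq
  have hpres := hmove (g ^ i) (H.pow_mem hgH i) a (by simp [hU]) (by rw [hi]; simp [hU])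
  have hcop : Nat.Coprime i p := by
    refine (hp.coprime_iff_not_dvd.2 fun hd => hba ?_).symm
    obtain ⟨j, rfl⟩ := hd
    rw [pow_mul, cycle_pow_eq_one hgy hgc, one_pow, Perm.one_apply] at hi
    exact hi.symm
  obtain ⟨m, hm⟩ : ∃ m : ℕ, (g ^ i) ^ m = g := by
    obtain ⟨m, hm⟩ := exists_pow_eq_self_of_coprime (x := g) (n := i)
      (by rw [hgy.orderOf, hgc]; exact hcop)
    exact ⟨m, hm⟩
  apply hstab
  have hpow : ∀ j : ℕ, ∀ v ∈ U, ((g ^ i) ^ j) v ∈ U := by
    intro j
    induction j with
    | zero => intro v hv; simpa using hv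
    | succ j ih => intro v hv; rw [pow_succ', Perm.mul_apply]; exact hpres _ (ih v hv)
  rw [← hm]
  exact hpow m

end Cfsg.Agent.KnownC.AnHall
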