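import Mathlib
import Cfsg.Prelude.Def_HallClasses
import Cfsg.Prelude.Def_OddOrderLocal

/-!
# Hall subgroups: elementary facts, and class stabilisers in symmetric groups
-/

set_option autoImplicit false

open Equiv Subgroup

namespace Cfsg.Agent.KnownC.AnHall

section Group

variable {G : Type*} [Group G] {π : Set ℕ} {H K : Subgroup G}

lemma pi_of_le (hK : IsPiSubgroup π K) (h : H ≤ K) : IsPiSubgroup π H :=
  fun p hp hd => hK p hp (hd.trans (Subgroup.card_dvd_of_le h))

lemma hall_eq_of_le [Finite G] (hH : IsPiHall π H) (h : H ≤ K) (hK : IsPiSubgroup π K) :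
    H = K := by
  refine le_antisymm h (relIndex_eq_one.1 ?_)
  by_contra hne
  obtain ⟨p, hp, hd⟩ := Nat.exists_prime_and_dvd hne
  exact hH.2 p hp (hK p hp (hd.trans (by
    rw [← card_mul_index (H.subgroupOf K)]; exact Dvd.intro_left _ rfl)))
    (hd.trans (relIndex_dvd_index_of_le h))

lemma hall_isPi (hH : IsPiHall π H) : IsPiSubgroup π H := hH.1

lemma dvd_card_of_hall [Finite G] (hH : IsPiHall π H) {p : ℕ} (hp : p.Prime) (hpi : p ∈ π)
    (hd : p ∣ Nat.card G) : p ∣ Nat.card H := by
  rw [← card_mul_index H] at hd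
  exact (hp.dvd_mul.1 hd).resolve_right (hH.2 p hp hpi)

lemma hall_card_eq [Finite G] (hH : IsPiHall π H) (hK : IsPiHall π K) :
    Nat.card H = Nat.card K := by
  have key : ∀ {A B : Subgroup G}, IsPiHall π A → IsPiHall π B →
      Nat.card A ∣ Nat.card B := by
    intro A B hA hB
    have hc : (Nat.card A).Coprime B.index := Nat.coprime_of_dvd fun p hp h1 h2 =>
      hB.2 p hp (hA.1 p hp h1) h2
    exact hc.dvd_of_dvd_mul_right (by rw [card_mul_index]; exact card_subgroup_dvd_card A)
  exact Nat.dvd_antisymm (key hH hK) (key hK hH)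

/-- A `p`-subgroup of `S` has a conjugate by an element of `S` inside a subgroup of index prime to `p`. -/
lemma exists_conj_mem [Finite G] {p : ℕ} [Fact p.Prime] {H S Q : Subgroup G}
    (hHS : H ≤ S) (hp : ¬ p ∣ H.index) (hQS : Q ≤ S) (hQ : IsPGroup p Q) :
    ∃ g ∈ S, ∀ x ∈ Q, g * x * g⁻¹ ∈ H := by
  have hQ' : IsPGroup p (Q.subgroupOf S) :=
    hQ.of_injective (subgroupOfEquivOfLe hQS).toMonoidHom (MulEquiv.injective _)
  have hidx : ¬ p ∣ Nat.card (S ⧸ H.subgroupOf S) :=
    fun h => hp (h.trans (relIndex_dvd_index_of_le hHS))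
  obtain ⟨c, hc⟩ := hQ'.nonempty_fixed_point_of_prime_not_dvd_card (α := S ⧸ H.subgroupOf S) hidx
  obtain ⟨g, rfl⟩ := QuotientGroup.mk_surjective c
  refine ⟨(g : G)⁻¹, S.inv_mem g.2, fun x hx => ?_⟩
  have h1 : (((⟨x, hQS hx⟩ : S) * g : S) : S ⧸ H.subgroupOf S) = g := hc ⟨⟨x, hQS hx⟩, hx⟩
  rw [QuotientGroup.eq, mem_subgroupOf] at h1
  have h2 := H.inv_mem h1
  simpa [mul_assoc] using h2

lemma exists_conj_mem_top [Finite G] {p : ℕ} [Fact p.Prime] {H : Subgroup G}
    (hp : ¬ p ∣ H.index) {Q : Subgroup G} (hQ : IsPGroup p Q) :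
    ∃ g : G, ∀ x ∈ Q, g * x * g⁻¹ ∈ H := by
  obtain ⟨g, -, hg⟩ := exists_conj_mem (S := ⊤) le_top hp le_top hQ
  exact ⟨g, hg⟩

lemma exists_conj_elem [Finite G] {p : ℕ} [Fact p.Prime] {H S : Subgroup G} (hHS : H ≤ S)
    (hp : ¬ p ∣ H.index) {x : G} (hxS : x ∈ S) {k : ℕ} (hx : x ^ p ^ k = 1) :
    ∃ g ∈ S, g * x * g⁻¹ ∈ H := by
  obtain ⟨j, -, hj⟩ := (Nat.dvd_prime_pow Fact.out).1 (orderOf_dvd_of_pow_eq_one hx)
  have hQ : IsPGroup p (zpowers x) := IsPGroup.of_card (n := j) (by rw [Nat.card_zpowers, hj])
  obtain ⟨g, hg, h⟩ := exists_conj_mem hHS hp (zpowers_le.2 hxS) hQ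
  exact ⟨g, hg, h x (mem_zpowers x)⟩

lemma relIndex_dvd_index {N : Subgroup G} [N.Normal] [Finite G] (H : Subgroup G) :
    H.relIndex N ∣ H.index := by
  obtain ⟨k, hk⟩ := relIndex_dvd_index_of_normal N H
  have h1 : (H ⊓ N).relIndex N * N.index = (H ⊓ N).index := relIndex_mul_index inf_le_right
  have h2 : (H ⊓ N).relIndex H * H.index = (H ⊓ N).index := relIndex_mul_index inf_le_left
  rw [inf_relIndex_right] at h1
  rw [inf_relIndex_left] at h2
  have h0 : N.relIndex H ≠ 0 := FiniteIndex.index_ne_zero
  refine ⟨k, Nat.eq_of_mul_eq_mul_left (Nat.pos_of_ne_zero h0) ?_⟩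
  rw [h2, ← h1, hk]; ring

lemma hall_subgroupOf [Finite G] (N : Subgroup G) [N.Normal] (hH : IsPiHall π H) :
    IsPiHall π (H.subgroupOf N) := by
  refine ⟨fun p hp hd => hH.1 p hp ?_, fun p hp hpi hd => hH.2 p hp hpi
    (hd.trans (relIndex_dvd_index H))⟩
  refine hd.trans ?_
  rw [← card_map_of_injective (f := N.subtype) N.subtype_injective, subgroupOf_map_subtype]
  exact Subgroup.card_dvd_of_le inf_le_left

lemma card_subgroupOf {N : Subgroup G} (h : H ≤ N) : Nat.card (H.subgroupOf N) = Nat.card H :=
  Nat.card_congr (subgroupOfEquivOfLe h).toEquiv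

end Group

section ClassStab

variable {α : Type*}

/-- Permutations preserving an equivalence relation. -/
def stabN (s : Setoid α) : Subgroup (Perm α) where
  carrier := {x | ∀ a b, s.r (x a) (x b) ↔ s.r a b}
  mul_mem' {x y} hx hy a b := by simp only [Perm.mul_apply]; rw [hx, hy]
  one_mem' a b := Iff.rfl
  inv_mem' {x} hx a b := by
    rw [← hx (x⁻¹ a) (x⁻¹ b)]; simp

/-- Permutations fixing every class of an equivalence relation. -/
def stabK (s : Setoid α) : Subgroup (Perm α) where
  carrier := {x | ∀ a, s.r (x a) a}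
  mul_mem' {x y} hx hy a := by
    simp only [Perm.mul_apply]; exact s.trans' (hx _) (hy a)
  one_mem' a := s.refl' a
  inv_mem' {x} hx a := by
    have := hx (x⁻¹ a); rw [show x (x⁻¹ a) = a from x.apply_symm_apply a] at this
    exact s.symm' this

lemma mem_stabN {s : Setoid α} {x : Perm α} :
    x ∈ stabN s ↔ ∀ a b, s.r (x a) (x b) ↔ s.r a b := Iff.rfl

lemma mem_stabK {s : Setoid α} {x : Perm α} : x ∈ stabK s ↔ ∀ a, s.r (x a) a := Iff.rfl

lemma stabK_le_stabN (s : Setoid α) : stabK s ≤ stabN s := fun _ hx a b =>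
  ⟨fun h => s.trans' (s.symm' (hx a)) (s.trans' h (hx b)),
    fun h => s.trans' (hx a) (s.trans' h (s.symm' (hx b)))⟩

lemma stabN_le_normalizer (s : Setoid α) :
    stabN s ≤ normalizer (stabK s : Set (Perm α)) := by
  intro g hg
  rw [mem_normalizer_iff]
  intro x
  simp only [mem_stabK, SetLike.mem_coe]
  constructor
  · intro hx a
    have h := (hg (x (g⁻¹ a)) (g⁻¹ a)).2 (hx _)
    simpa [Perm.mul_apply] using h
  · intro hx a
    have h := hx (g a)
    simp only [Perm.mul_apply] at h
    rw [show g⁻¹ (g a) = a from g.symm_apply_apply a] at h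
    exact (hg _ _).1 h

/-- The image of a class-preserving permutation on the classes. -/
def classHom (s : Setoid α) : stabN s →* Perm (Quotient s) where
  toFun x := Quotient.congr (x : Perm α) (fun a b => (x.2 a b).symm)
  map_one' := by
    ext c; induction c using Quotient.inductionOn with
    | h a => rfl
  map_mul' x y := by
    ext c; induction c using Quotient.inductionOn with
    | h a => rfl

lemma classHom_mk (s : Setoid α) (x : stabN s) (a : α) :
    classHom s x (Quotient.mk s a) = Quotient.mk s ((x : Perm α) a) := rfl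

variable [Fintype α] (s : Setoid α)

/-- Number of points of a class. -/
noncomputable def classSize (c : Quotient s) : ℕ := Nat.card {a // Quotient.mk s a = c}

lemma classSize_mk (a : α) : classSize s (Quotient.mk s a) = Nat.card {b // s.r b a} :=
  Nat.card_congr (Equiv.subtypeEquivRight fun b => ⟨fun h => Quotient.exact h,
    fun h => Quotient.sound h⟩)

lemma classSize_pos (c : Quotient s) : 0 < classSize s c := by
  induction c using Quotient.inductionOn with
  | h a =>
    haveI : Nonempty {b // Quotient.mk s b = Quotient.mk s a} := ⟨⟨a, rfl⟩⟩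
    exact Nat.card_pos

lemma sum_classSize [Fintype (Quotient s)] : ∑ c, classSize s c = Fintype.card α := by
  classical
  simp only [classSize, Nat.card_eq_fintype_card]
  rw [← Fintype.card_sigma]
  exact Fintype.card_congr (Equiv.sigmaFiberEquiv _)

lemma card_stabK [Fintype (Quotient s)] :
    Nat.card (stabK s) = ∏ c : Quotient s, (classSize s c).factorial := by
  classical
  rw [Nat.card_congr (Equiv.subtypeEquivRight (q := fun g : Perm α =>
    (Quotient.mk s) ∘ g = Quotient.mk s) fun g => ?_), Nat.card_eq_fintype_card,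
    DomMulAct.stabilizer_card]
  · simp only [classSize, Nat.card_eq_fintype_card]
  · rw [funext_iff]
    exact ⟨fun h a => Quotient.sound (h a), fun h a => Quotient.exact (h a)⟩

/-- The bound `∏ c!^k k!` for the stabiliser of a partition. -/
noncomputable def partBound [Fintype (Quotient s)] : ℕ :=
  (∏ c : Quotient s, (classSize s c).factorial) *
    ∏ i ∈ Finset.univ.image (classSize s), (Nat.card {c // classSize s c = i}).factorial

lemma card_stabN_dvd [Fintype (Quotient s)] : Nat.card (stabN s) ∣ partBound s := by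
  classical
  rw [← Subgroup.card_mul_index (classHom s).ker, index_ker, partBound]
  apply mul_dvd_mul
  · rw [← card_stabK s]
    refine dvd_of_eq (Nat.card_congr
      { toFun := fun x => ⟨(x.1 : Perm α), fun a => ?_⟩
        invFun := fun y => ⟨⟨y.1, stabK_le_stabN s y.2⟩, ?_⟩
        left_inv := fun x => rfl
        right_inv := fun y => rfl })
    · have h := x.2
      rw [MonoidHom.mem_ker] at h
      exact Quotient.exact (by rw [← classHom_mk, h]; rfl)
    · rw [MonoidHom.mem_ker]
      ext c; induction c using Quotient.inductionOn with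
      | h a => exact Quotient.sound (y.2 a)
  · let S : Subgroup (Perm (Quotient s)) :=
      { carrier := {σ | classSize s ∘ σ = classSize s}
        mul_mem' := fun {x y} hx hy => by
          funext c
          exact (congrFun hx (y c)).trans (congrFun hy c)
        one_mem' := rfl
        inv_mem' := fun {x} hx => by
          funext c
          have := congrFun hx (x⁻¹ c)
          simp only [Function.comp_apply] at this ⊢
          rw [show x (x⁻¹ c) = c from x.apply_symm_apply c] at this
          exact this.symm }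
    have hle : (classHom s).range ≤ S := by
      rintro _ ⟨x, rfl⟩
      show classSize s ∘ (classHom s x) = classSize s
      funext c
      induction c using Quotient.inductionOn with
      | h a =>
        rw [Function.comp_apply, classHom_mk, classSize_mk, classSize_mk]
        exact (Nat.card_congr (Equiv.subtypeEquiv (x : Perm α) fun b => (x.2 b a).symm)).symm
    refine (Subgroup.card_dvd_of_le hle).trans (dvd_of_eq ?_)
    show Nat.card {σ : Perm (Quotient s) // classSize s ∘ σ = classSize s} = _
    rw [Nat.card_eq_fintype_card, DomMulAct.stabilizer_card']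
    simp only [Nat.card_eq_fintype_card]

end ClassStab

end Cfsg.Agent.KnownC.AnHall
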