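import Cfsg.Agent.Lib.KnownC.AnHall.Main

/-!
# The full Sylow analogue in alternating groups
-/

set_option autoImplicit false

open Equiv Subgroup

namespace Cfsg.Agent.KnownC.AnHall

section Group

variable {G : Type*} [Group G] [Finite G] {π : Set ℕ}

lemma exists_maximal_pi {Q : Subgroup G} (hQ : IsPiSubgroup π Q) :
    ∃ M, Q ≤ M ∧ Maximal (IsPiSubgroup π) M := by
  obtain ⟨M, hQM, hM⟩ := Finite.exists_le_maximal (p := IsPiSubgroup π) hQ
  exact ⟨M, hQM, hM⟩

lemma hall_of_maximal (hD : IsDPiGroup π G) {M : Subgroup G}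
    (hM : Maximal (IsPiSubgroup π) M) : IsPiHall π M := by
  refine ⟨hM.1, fun p hp hpi hd => ?_⟩
  haveI := Fact.mk hp
  obtain ⟨P⟩ := (Sylow.nonempty : Nonempty (Sylow p G))
  have hP : IsPiSubgroup π (P : Subgroup G) := fun r hr hrd => by
    obtain ⟨k, hk⟩ := IsPGroup.iff_card.1 P.2
    rw [hk] at hrd
    rwa [(Nat.prime_dvd_prime_iff_eq hr hp).1 (hr.dvd_of_dvd_pow hrd)]
  obtain ⟨M', hPM, hM'⟩ := exists_maximal_pi hP
  obtain ⟨g, rfl⟩ := hD M M' hM hM'
  refine P.not_dvd_index (hd.trans ?_)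
  rw [← index_map_equiv M (MulAut.conj g)]
  exact index_dvd_of_le hPM

lemma exists_hall_ge_of_D (hD : IsDPiGroup π G) {Q : Subgroup G} (hQ : IsPiSubgroup π Q) :
    ∃ M, Q ≤ M ∧ IsPiHall π M := by
  obtain ⟨M, hQM, hM⟩ := exists_maximal_pi hQ
  exact ⟨M, hQM, hall_of_maximal hD hM⟩

lemma D_of_atMostOne (h1 : AtMostOne π (Nat.card G)) : IsDPiGroup π G := by
  obtain ⟨H, hH⟩ := exists_hall_of_atMostOne (G := G) (π := π) h1
  have key : ∀ M : Subgroup G, Maximal (IsPiSubgroup π) M → IsPiHall π M := by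
    intro M hM
    obtain ⟨g, hg⟩ := le_conj_hall h1 hH hM.1
    set H' := H.map (MulAut.conj g⁻¹).toMonoidHom with hH'
    have hle : M ≤ H' := fun x hx =>
      ⟨g * x * g⁻¹, hg ⟨x, hx, rfl⟩, by simp [MulAut.conj_apply, mul_assoc]⟩
    have hpi : IsPiSubgroup π H' := fun p hp hd => hH.1 p hp (by rwa [card_map_conj] at hd)
    rw [le_antisymm hle (hM.2 hpi hle)]
    refine ⟨hpi, fun p hp hpi' => ?_⟩
    rw [hH', show (H.map (MulAut.conj g⁻¹).toMonoidHom).index = H.index from
      index_map_equiv H (MulAut.conj g⁻¹)]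
    exact hH.2 p hp hpi'
  exact fun A B hA hB => hall_conj_of_atMostOne h1 (key A hA) (key B hB)

lemma D_of_all (h : ∀ r : ℕ, r.Prime → r ∣ Nat.card G → r ∈ π) : IsDPiGroup π G := by
  intro H K hH hK
  have htop : IsPiSubgroup π (⊤ : Subgroup G) := fun p hp hd => h p hp (by rwa [card_top] at hd)
  have e1 : H = ⊤ := top_le_iff.1 (hH.2 htop le_top)
  have e2 : K = ⊤ := top_le_iff.1 (hK.2 htop le_top)
  exact ⟨1, by subst e1 e2; exact (map_top_of_surjective _ (MulEquiv.surjective _)).symm⟩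

end Group

variable {n : ℕ}

/-- A permutation preserving a partition into classes of different sizes fixes each class. -/
lemma label_fixed {f : Fin n → Fin 3} {x : Perm (Fin n)} (hx : x ∈ stabN (lab f)) (u : Fin n) :
    Nat.card {y // f y = f (x u)} = Nat.card {y // f y = f u} :=
  (Nat.card_congr (Equiv.subtypeEquiv x fun b => ((mem_stabN_lab.1 hx) b u).symm)).symm

lemma fin3_cases (i : Fin 3) : i = 0 ∨ i = 1 ∨ i = 2 := by fin_cases i <;> simp

lemma orbit_inj {p : ℕ} (hp : p.Prime) {y : Perm (Fin n)} (hyo : orderOf y = p) {u : Fin n}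
    (hu : y u ≠ u) {i j : Fin p} (he : (y ^ (i : ℕ)) u = (y ^ (j : ℕ)) u) : i = j := by
  by_contra hne
  wlog hlt : (i : ℕ) < j generalizing i j
  · have hv := Fin.val_ne_of_ne hne
    exact this he.symm (Ne.symm hne) (by omega)
  apply hu
  rw [show (j : ℕ) = (i : ℕ) + (j - i) by omega, pow_add, Perm.mul_apply] at he
  have hk : (y ^ ((j : ℕ) - i)) u = u := ((y ^ (i : ℕ)).injective he).symm
  have hcop : Nat.Coprime ((j : ℕ) - i) (orderOf y) := by
    rw [hyo, Nat.coprime_comm, hp.coprime_iff_not_dvd]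
    intro hd; have := Nat.le_of_dvd (by omega) hd; omega
  obtain ⟨m, hm⟩ := exists_pow_eq_self_of_coprime hcop
  rw [← hm]
  clear hm
  induction m with
  | zero => rfl
  | succ m ih => rw [pow_succ, Perm.mul_apply, hk, ih]

/-- The block label. -/
def blk (h : ℕ) (u : Fin n) : Fin 3 := if (u : ℕ) < h then 0 else if (u : ℕ) < 2 * h then 1 else 2

/-- Even permutations of `[0, 2h)` preserving the two blocks. -/
def wreath (n h : ℕ) : Subgroup (alternatingGroup (Fin n)) :=
  (stabN (lab (blk (n := n) h)) ⊓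
    { carrier := {x | ∀ u : Fin n, 2 * h ≤ (u : ℕ) → x u = u}
      mul_mem' := fun {x y} hx hy u hu => by rw [Perm.mul_apply, hy u hu, hx u hu]
      one_mem' := fun _ _ => rfl
      inv_mem' := fun {x} hx u hu => by
        conv_lhs => rw [← hx u hu]
        exact x.symm_apply_apply u }).subgroupOf (alternatingGroup (Fin n))

lemma wreath_pi (π : Set ℕ) {h : ℕ} (h2 : 2 ∈ π) (hh : ∀ p : ℕ, p.Prime → p ≤ h → p ∈ π) :
    IsPiSubgroup π (wreath n h) := by
  intro p hp hd
  by_contra hpi
  haveI := Fact.mk hp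
  obtain ⟨x, hx⟩ := exists_prime_orderOf_dvd_card' (G := wreath n h) p hd
  set y : Perm (Fin n) := ((x : alternatingGroup (Fin n)) : Perm (Fin n)) with hy
  have hyo : orderOf y = p := by
    rw [hy, Subgroup.orderOf_coe, Subgroup.orderOf_coe, hx]
  obtain ⟨hyN, hyF⟩ := (mem_subgroupOf.1 x.2 : y ∈ _ ⊓ _)
  replace hyN : ∀ u v, blk h (y u) = blk h (y v) ↔ blk h u = blk h v := hyN
  obtain ⟨u, hu⟩ : ∃ u, y u ≠ u := by
    by_contra hno
    push Not at hno
    have : y = 1 := Perm.ext hno
    rw [this, orderOf_one] at hyo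
    exact hp.ne_one hyo.symm
  have hmove : ∀ i : ℕ, ((y ^ i) u : ℕ) < 2 * h := by
    intro i
    by_contra hge
    push Not at hge
    apply hu
    have hfix := hyF _ hge
    rw [← Perm.mul_apply, ← pow_succ', pow_succ, Perm.mul_apply] at hfix
    exact (y ^ i).injective hfix
  have hpodd : ¬ 2 ∣ p := fun hd => hpi (((Nat.prime_dvd_prime_iff_eq Nat.prime_two hp).1 hd) ▸ h2)
  have hlab : ∀ i : ℕ, blk h ((y ^ i) u) = blk h u := by
    have hstep : blk h (y u) = blk h u := by
      by_contra hne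
      have halt : ∀ i : ℕ, blk h ((y ^ i) u) = blk h (if 2 ∣ i then u else y u) := by
        intro i
        induction i with
        | zero => simp
        | succ i ih =>
          rw [pow_succ', Perm.mul_apply, (hyN _ _).2 ih]
          by_cases hi : 2 ∣ i
          · rw [if_pos hi, if_neg (by omega)]
          · rw [if_neg hi, if_pos (by omega)]
            have l2 : ∀ w : Fin n, (w : ℕ) < 2 * h → blk h w = 0 ∨ blk h w = 1 := by
              intro w hw; unfold blk; split_ifs <;> simp
            have hy2 : blk h (y (y u)) ≠ blk h (y u) := fun e => hne ((hyN _ _).1 e)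
            have hm0 := hmove 0; have hm1 := hmove 1; have hm2 := hmove 2
            simp only [pow_zero, pow_one, Perm.one_apply] at hm0 hm1
            rw [pow_two, Perm.mul_apply] at hm2
            rcases l2 _ hm0 with a | a <;> rcases l2 _ hm1 with b | b <;> rcases l2 _ hm2 with c | c <;>
              first
                | exact c.trans a.symm
                | exact absurd (b.trans a.symm) hne
                | exact absurd (c.trans b.symm) hy2
      have := halt p
      rw [← hyo, pow_orderOf_eq_one, Perm.one_apply, hyo, if_neg hpodd] at this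
      exact hne this.symm
    intro i
    induction i with
    | zero => simp
    | succ i ih => rw [pow_succ', Perm.mul_apply, (hyN _ _).2 ih, hstep]
  apply hpi
  apply hh p hp
  have hinj : Function.Injective fun i : Fin p => ((⟨(y ^ (i : ℕ)) u, hlab i⟩ :
      {w : Fin n // blk h w = blk h u})) :=
    fun i j hij => orbit_inj hp hyo hu (congrArg Subtype.val hij)
  refine le_trans ?_ (le_trans (Fintype.card_le_of_injective _ hinj) ?_)
  · simp
  · have hu2 := hmove 0
    rw [pow_zero, Perm.one_apply] at hu2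
    have hb : ∀ w : Fin n, blk h w = blk h u → ((w : ℕ) < h ↔ (u : ℕ) < h) ∧ (w : ℕ) < 2 * h := by
      intro w hw
      unfold blk at hw
      split_ifs at hw <;> simp at hw <;> omega
    refine (Fintype.card_le_of_injective (fun w : {w : Fin n // blk h w = blk h u} =>
      (⟨if ((w.1 : Fin n) : ℕ) < h then (w.1 : ℕ) else (w.1 : ℕ) - h, by
        have := hb _ w.2; split_ifs <;> omega⟩ : Fin h)) ?_).trans (le_of_eq (Fintype.card_fin h))
    intro a b hab
    have ha := hb _ a.2
    have hb' := hb _ b.2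
    simp only [Fin.mk.injEq] at hab
    apply Subtype.ext; apply Fin.ext
    split_ifs at hab <;> omega

/-- Exchange of the two blocks. -/
def blkSwapFun (h : ℕ) (hn : 2 * h ≤ n) (u : Fin n) : Fin n :=
  if h1 : (u : ℕ) < h then ⟨u + h, by omega⟩
  else if h2 : (u : ℕ) < 2 * h then ⟨u - h, by omega⟩ else u

lemma blkSwapFun_invol (h : ℕ) (hn : 2 * h ≤ n) (u : Fin n) :
    blkSwapFun h hn (blkSwapFun h hn u) = u := by
  unfold blkSwapFun
  by_cases h1 : (u : ℕ) < h
  · simp only [dif_pos h1]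
    rw [dif_neg (by omega), dif_pos (by omega)]
    exact Fin.ext (by simp)
  by_cases h2 : (u : ℕ) < 2 * h
  · simp only [dif_neg h1, dif_pos h2]
    rw [dif_pos (by omega)]
    exact Fin.ext (by simp; omega)
  · simp only [dif_neg h1, dif_neg h2]

lemma swap_mem_blkN {h : ℕ} {u v : Fin n} (huv : blk h u = blk h v) :
    swap u v ∈ stabN (lab (blk (n := n) h)) := by
  apply stabK_le_stabN
  intro w
  show blk h (swap u v w) = blk h w
  rcases eq_or_ne w u with rfl | h1
  · rw [swap_apply_left, huv]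
  rcases eq_or_ne w v with rfl | h2
  · rw [swap_apply_right, huv]
  · rw [swap_apply_of_ne_of_ne h1 h2]

/-- With `h ≥ 3` the group `wreath n h` is transitive on `[0, 2h)`. -/
lemma wreath_trans {h : ℕ} (hh : 3 ≤ h) (hn : 2 * h ≤ n) {u v : Fin n} (hu : (u : ℕ) < 2 * h)
    (hv : (v : ℕ) < 2 * h) : ∃ x : Perm (Fin n), (∃ hx : x ∈ alternatingGroup (Fin n),
      (⟨x, hx⟩ : alternatingGroup (Fin n)) ∈ wreath n h) ∧ x u = v := by
  set σ : Perm (Fin n) := ⟨blkSwapFun h hn, blkSwapFun h hn, blkSwapFun_invol h hn,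
    blkSwapFun_invol h hn⟩ with hσ
  have hσv : ∀ w, σ w = blkSwapFun h hn w := fun w => rfl
  have hσblk : ∀ w : Fin n, blk h (σ w) =
      if (w : ℕ) < h then 1 else if (w : ℕ) < 2 * h then 0 else 2 := by
    intro w; rw [hσv]; unfold blk blkSwapFun
    split_ifs <;> simp_all <;> omega
  have hσN : σ ∈ stabN (lab (blk (n := n) h)) := by
    intro a b
    show blk h (σ a) = blk h (σ b) ↔ blk h a = blk h b
    rw [hσblk, hσblk]; unfold blk
    split_ifs <;> simp
  have hσF : ∀ w : Fin n, 2 * h ≤ (w : ℕ) → σ w = w := by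
    intro w hw; rw [hσv]; unfold blkSwapFun
    rw [dif_neg (by omega), dif_neg (by omega)]
  set W := wreath n h with hW
  have hmem : ∀ x : Perm (Fin n), ∀ hx : x ∈ alternatingGroup (Fin n),
      x ∈ stabN (lab (blk (n := n) h)) → (∀ w : Fin n, 2 * h ≤ (w : ℕ) → x w = w) →
      (⟨x, hx⟩ : alternatingGroup (Fin n)) ∈ W := fun x hx h1 h2 => mem_subgroupOf.2 ⟨h1, h2⟩
  -- inside a block
  have inblock : ∀ a b : Fin n, (a : ℕ) < 2 * h → blk h a = blk h b →
      ∃ x : alternatingGroup (Fin n), x ∈ W ∧ (x : Perm (Fin n)) a = b := by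
    intro a b ha hab
    by_cases hne : a = b
    · exact ⟨1, W.one_mem, hne⟩
    have hb : (b : ℕ) < 2 * h ∧ ((a : ℕ) < h ↔ (b : ℕ) < h) := by
      unfold blk at hab; split_ifs at hab <;> simp_all <;> omega
    obtain ⟨c, hca, hcb, hc⟩ : ∃ c : Fin n, c ≠ a ∧ c ≠ b ∧
        ((c : ℕ) < 2 * h ∧ ((a : ℕ) < h ↔ (c : ℕ) < h)) := by
      set base := if (a : ℕ) < h then 0 else h with hbase
      have hbb : base + 2 < 2 * h ∧ ∀ i ≤ 2, (base + i < h ↔ (a : ℕ) < h) := by
        rw [hbase]; split_ifs with h0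
        · exact ⟨by omega, fun i hi => by omega⟩
        · exact ⟨by omega, fun i hi => by omega⟩
      obtain ⟨i, hi, h1, h2⟩ : ∃ i ≤ 2, base + i ≠ (a : ℕ) ∧ base + i ≠ (b : ℕ) := by
        by_contra hno
        push Not at hno
        have := hno 0 (by omega); have := hno 1 (by omega); have := hno 2 le_rfl
        have := Fin.val_ne_of_ne hne
        omega
      exact ⟨⟨base + i, by omega⟩, fun e => h1 (congrArg Fin.val e), fun e => h2 (congrArg Fin.val e),
        by have := hbb.1; simp only; omega, ((hbb.2 i hi).symm)⟩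
    have hac : blk h a = blk h c := by
      unfold blk; split_ifs <;> simp_all
    refine ⟨⟨swap a c * swap a b, ?_⟩, hmem _ _ (mul_mem (swap_mem_blkN hac) (swap_mem_blkN hab)) ?_, ?_⟩
    · rw [Perm.mem_alternatingGroup, map_mul, Perm.sign_swap hca.symm, Perm.sign_swap hne]; rfl
    · intro w hw
      have n1 : w ≠ a := fun e => by have := congrArg Fin.val e; omega
      have n2 : w ≠ b := fun e => by have := congrArg Fin.val e; omega
      have n3 : w ≠ c := fun e => by have := congrArg Fin.val e; omega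
      rw [Perm.mul_apply, swap_apply_of_ne_of_ne n1 n2, swap_apply_of_ne_of_ne n1 n3]
    · show (swap a c * swap a b) a = b
      rw [Perm.mul_apply, swap_apply_left, swap_apply_of_ne_of_ne (Ne.symm hne) hcb.symm]
  -- across the blocks
  set u₀ : Fin n := ⟨0, by omega⟩ with hu₀
  set u₁ : Fin n := ⟨1, by omega⟩ with hu₁
  set u₂ : Fin n := ⟨2, by omega⟩ with hu₂
  obtain ⟨τ, hτ, hτ2⟩ : ∃ τ : alternatingGroup (Fin n), τ ∈ W ∧ (τ : Perm (Fin n)) u₂ = σ u₂ := by
    rcases Int.units_eq_one_or (Perm.sign σ) with hs | hs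
    · exact ⟨⟨σ, hs⟩, hmem σ hs hσN hσF, rfl⟩
    · have hne : u₀ ≠ u₁ := by simp [hu₀, hu₁, Fin.ext_iff]
      have hb : blk h u₀ = blk h u₁ := by
        unfold blk; rw [if_pos (by simp [hu₀]; omega), if_pos (by simp [hu₁]; omega)]
      refine ⟨⟨σ * swap u₀ u₁, by rw [Perm.mem_alternatingGroup, map_mul, hs, Perm.sign_swap hne]; rfl⟩,
        hmem _ _ (mul_mem hσN (swap_mem_blkN hb)) ?_, ?_⟩
      · intro w hw
        rw [Perm.mul_apply, swap_apply_of_ne_of_ne (fun e => by have := congrArg Fin.val e; simp [hu₀] at this; omega)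
          (fun e => by have := congrArg Fin.val e; simp [hu₁] at this; omega), hσF w hw]
      · show (σ * swap u₀ u₁) u₂ = σ u₂
        rw [Perm.mul_apply, swap_apply_of_ne_of_ne (by simp [hu₀, hu₂, Fin.ext_iff])
          (by simp [hu₁, hu₂, Fin.ext_iff])]
  have to2 : ∀ w : Fin n, (w : ℕ) < 2 * h →
      ∃ x : alternatingGroup (Fin n), x ∈ W ∧ (x : Perm (Fin n)) w = u₂ := by
    intro w hw
    by_cases hw' : (w : ℕ) < h
    · exact inblock w u₂ hw (by unfold blk; rw [if_pos hw', if_pos (by simp [hu₂]; omega)])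
    · obtain ⟨x, hx, hxw⟩ := inblock w (σ u₂) hw (by
        rw [hσblk, if_pos (by simp [hu₂]; omega)]; unfold blk; rw [if_neg hw', if_pos hw])
      refine ⟨τ⁻¹ * x, W.mul_mem (W.inv_mem hτ) hx, ?_⟩
      rw [Subgroup.coe_mul, Perm.mul_apply, hxw, Subgroup.coe_inv, Perm.inv_def, Equiv.symm_apply_eq, hτ2]
  obtain ⟨x, hx, hxu⟩ := to2 u hu
  obtain ⟨y, hy, hyv⟩ := to2 v hv
  refine ⟨((y⁻¹ * x : alternatingGroup (Fin n)) : Perm (Fin n)), ⟨(y⁻¹ * x).2, W.mul_mem (W.inv_mem hy) hx⟩, ?_⟩
  rw [Subgroup.coe_mul, Perm.mul_apply, hxu, Subgroup.coe_inv, Perm.inv_def, Equiv.symm_apply_eq, hyv]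

lemma card_mono {β : Type*} [Finite β] {P Q : β → Prop} (h : ∀ u, P u → Q u) :
    Nat.card {u // P u} ≤ Nat.card {u // Q u} :=
  Nat.card_le_card_of_injective (fun u => ⟨u.1, h _ u.2⟩) fun a b hab =>
    Subtype.ext (congrArg (Subtype.val : {u // Q u} → β) hab)

lemma card_blk {h : ℕ} (hn : 2 * h ≤ n) :
    Nat.card {u : Fin n // (u : ℕ) < 2 * h} = 2 * h := by
  rw [Nat.card_congr (Fin.castLEquiv hn).symm]; simp

/-- A Hall subgroup of `A_n` is not the largest π-subgroup up to conjugation. -/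
theorem not_D {π : Set ℕ} (hn : 5 ≤ n) (h1 : ¬ AtMostOne π (Nat.card (Perm (Fin n))))
    (hall' : ¬ ∀ r : ℕ, r.Prime → r ∣ Nat.card (alternatingGroup (Fin n)) → r ∈ π) :
    ¬ IsDPiGroup π (alternatingGroup (Fin n)) := by
  intro hD
  obtain ⟨M, -, hM⟩ := exists_hall_ge_of_D hD (π := π) (Q := ⊥)
    (fun p hp hd => by rw [card_bot, Nat.dvd_one] at hd; exact absurd hd hp.ne_one)
  obtain ⟨h2, h3, -⟩ := (alt_cases hM).resolve_left h1
  obtain ⟨H, hH, -⟩ := exists_sym_hall' hM
  obtain ⟨a, b, r, hs, -, hc, hpa⟩ := hall_shape hH h2 h3 (by simp; omega)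
  -- every π-subgroup lies in a partition stabiliser
  have key : ∀ Q : Subgroup (alternatingGroup (Fin n)), IsPiSubgroup π Q →
      ∃ f : Fin n → Fin 3, Nat.card {x // f x = 0} = a ∧ Nat.card {x // f x = 1} = b ∧
        Nat.card {x // f x = 2} = r ∧ ∀ x ∈ Q, (x : Perm (Fin n)) ∈ stabN (lab f) := by
    intro Q hQ
    obtain ⟨M', hQM, hM'⟩ := exists_hall_ge_of_D hD hQ
    obtain ⟨H', hH', rfl⟩ := exists_sym_hall' hM'
    obtain ⟨a', b', r', hs', ⟨f, e0, e1, e2, rfl⟩, hc', -⟩ := hall_shape hH' h2 h3 (by simp; omega)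
    obtain ⟨rfl, rfl, rfl⟩ := shape_unique hs hs' (by rw [← hc, ← hc', hall_card_eq hH hH'])
    exact ⟨f, e0, e1, e2, fun x hx => mem_subgroupOf.1 (hQM hx)⟩
  have hall : ¬ ∀ p : ℕ, p.Prime → p ≤ n → p ∈ π := fun h =>
    hall' fun p hp hd => h p hp (by simpa using le_of_dvd_alt hp hd)
  rw [Shape, Fintype.card_fin] at hs
  rcases hs with ⟨rfl, hra, hlog, hsum⟩ | ⟨hba, ha4, hr2, -, hsum⟩
  · have hr0 : r ≠ 0 := by rintro rfl; exact hall fun p hp hpn => hpa p hp (by omega)
    have hl2 : 2 ≤ Nat.log 2 n := Nat.le_log_of_pow_le (by norm_num) (by omega)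
    have ha4 : 4 ≤ a := le_trans (le_trans (by norm_num) (Nat.pow_le_pow_right (by norm_num) hl2)) hlog
    have fix' : ∀ {f : Fin n → Fin 3} {x : Perm (Fin n)}, x ∈ stabN (lab f) →
        Nat.card {x // f x = 0} = a → Nat.card {x // f x = 1} = 0 →
        Nat.card {x // f x = 2} = r → ∀ w, f (x w) = f w := by
      intro f x hx e0 e1 e2 w
      have := label_fixed hx w
      have hne1 : ∀ w, f w ≠ 1 := fun w hw => by
        rw [Nat.card_eq_zero] at e1
        rcases e1 with e1 | e1
        · exact e1.false ⟨w, hw⟩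
        · exact not_finite {x // f x = 1}
      have := hne1 w
      have := hne1 (x w)
      rcases fin3_cases (f w) with e | e | e <;> rcases fin3_cases (f (x w)) with e' | e' | e' <;>
        simp_all <;> omega
    by_cases hodd : r = 1 ∧ Even a
    · obtain ⟨rfl, hev⟩ := hodd
      set L : Subgroup (alternatingGroup (Fin n)) :=
        (setStab fun u : Fin n => (u : ℕ) < 3).subgroupOf _ with hL
      have hLpi : IsPiSubgroup π L := by
        intro p hp hd
        by_contra hpi
        haveI := Fact.mk hp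
        obtain ⟨x, hx⟩ := exists_prime_orderOf_dvd_card' (G := L) p hd
        set y : Perm (Fin n) := ((x : alternatingGroup (Fin n)) : Perm (Fin n)) with hy
        have hyo : orderOf y = p := by rw [hy, Subgroup.orderOf_coe, Subgroup.orderOf_coe, hx]
        have hyS : ∀ u : Fin n, ((y u : Fin n) : ℕ) < 3 ↔ (u : ℕ) < 3 :=
          mem_setStab.1 (mem_subgroupOf.1 x.2)
        obtain ⟨u, hu⟩ : ∃ u, y u ≠ u := by
          by_contra hno
          push Not at hno
          rw [show y = 1 from Perm.ext hno, orderOf_one] at hyo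
          exact hp.ne_one hyo.symm
        have horb : ∀ i : ℕ, (((y ^ i) u : Fin n) : ℕ) < 3 ↔ (u : ℕ) < 3 := by
          intro i
          induction i with
          | zero => simp
          | succ i ih => rw [pow_succ', Perm.mul_apply, hyS, ih]
        have hinj : Function.Injective fun i : Fin p => ((⟨(y ^ (i : ℕ)) u, horb i⟩ :
            {w : Fin n // ((w : ℕ) < 3 ↔ (u : ℕ) < 3)})) :=
          fun i j hij => orbit_inj hp hyo hu (congrArg Subtype.val hij)
        have hle := Fintype.card_le_of_injective _ hinj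
        rw [Fintype.card_fin, ← Nat.card_eq_fintype_card] at hle
        apply hpi
        apply hpa p hp
        by_cases hu3 : (u : ℕ) < 3
        · refine hle.trans (le_trans ?_ (show 3 ≤ a by omega))
          rw [Nat.card_congr (Equiv.subtypeEquivRight fun w => iff_true_right hu3),
            Nat.card_congr (Fin.castLEquiv (show 3 ≤ n by omega)).symm]
          simp
        · refine hle.trans ?_
          rw [Nat.card_eq_fintype_card, Fintype.card_subtype]
          refine (Finset.card_le_card (t := Finset.univ.erase (⟨0, by omega⟩ : Fin n)) ?_).trans ?_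
          · intro w hw
            simp only [Finset.mem_filter, Finset.mem_univ, true_and, iff_false, hu3] at hw
            refine Finset.mem_erase.2 ⟨fun e => ?_, Finset.mem_univ _⟩
            subst e; simp at hw
          · simp; omega
      obtain ⟨f, e0, e1, e2, hf⟩ := key L hLpi
      obtain ⟨⟨w, hw⟩, -⟩ := Nat.card_pos_iff.1 (show 0 < Nat.card {x // f x = 2} by omega)
      haveI hsub : Subsingleton {x // f x = 2} := (Nat.card_eq_one_iff_unique.1 e2).1
      -- an element of `L` moving `w`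
      obtain ⟨x, hxA, hxS, hxw⟩ : ∃ x : Perm (Fin n), x ∈ alternatingGroup (Fin n) ∧
          (∀ u : Fin n, ((x u : Fin n) : ℕ) < 3 ↔ (u : ℕ) < 3) ∧ x w ≠ w := by
        have hpair : ∀ c d : Fin n, ((c : ℕ) < 3 ↔ (d : ℕ) < 3) → ∀ u : Fin n,
            ((swap c d u : Fin n) : ℕ) < 3 ↔ (u : ℕ) < 3 := by
          intro c d hcd u
          rcases eq_or_ne u c with rfl | h1
          · rw [swap_apply_left, hcd]
          rcases eq_or_ne u d with rfl | h2
          · rw [swap_apply_right, hcd]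
          · rw [swap_apply_of_ne_of_ne h1 h2]
        obtain ⟨c, hcw, hc⟩ : ∃ c : Fin n, c ≠ w ∧ ((c : ℕ) < 3 ↔ (w : ℕ) < 3) := by
          by_cases hw3 : (w : ℕ) < 3
          · by_cases h0 : (w : ℕ) = 0
            · exact ⟨⟨1, by omega⟩, fun e => by have := congrArg Fin.val e; simp at this; omega, by simp; omega⟩
            · exact ⟨⟨0, by omega⟩, fun e => by have := congrArg Fin.val e; simp at this; omega, by simp; omega⟩
          · by_cases h0 : (w : ℕ) = 3
            · exact ⟨⟨4, by omega⟩, fun e => by have := congrArg Fin.val e; simp at this; omega, by simp; omega⟩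
            · exact ⟨⟨3, by omega⟩, fun e => by have := congrArg Fin.val e; simp at this; omega, by simp; omega⟩
        obtain ⟨c', d', hne, hcd, hd1, hd2⟩ : ∃ c' d' : Fin n, c' ≠ d' ∧
            ((c' : ℕ) < 3 ↔ (d' : ℕ) < 3) ∧ ((c' : ℕ) < 3 ↔ ¬ (w : ℕ) < 3) ∧
            ((d' : ℕ) < 3 ↔ ¬ (w : ℕ) < 3) := by
          by_cases hw3 : (w : ℕ) < 3
          · exact ⟨⟨3, by omega⟩, ⟨4, by omega⟩, by simp, by simp, by simp [hw3], by simp [hw3]⟩
          · exact ⟨⟨0, by omega⟩, ⟨1, by omega⟩, by simp, by simp, by simp [hw3], by simp [hw3]⟩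
        refine ⟨swap c w * swap c' d', ?_, fun u => ?_, ?_⟩
        · rw [Perm.mem_alternatingGroup, map_mul, Perm.sign_swap hcw, Perm.sign_swap hne]; rfl
        · rw [Perm.mul_apply, hpair c w hc, hpair c' d' hcd]
        · have n1 : w ≠ c' := fun e => by subst e; tauto
          have n2 : w ≠ d' := fun e => by subst e; tauto
          rw [Perm.mul_apply, swap_apply_of_ne_of_ne n1 n2, swap_apply_right]
          exact hcw
      have := fix' (hf ⟨x, hxA⟩ (mem_subgroupOf.2 (mem_setStab.2 hxS))) e0 e1 e2 w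
      exact hxw (congrArg Subtype.val (Subsingleton.elim (⟨x w, this.trans hw⟩ : {x // f x = 2}) ⟨w, hw⟩))
    · obtain ⟨h, hh3, hhn, hha, hhgt⟩ : ∃ h, 3 ≤ h ∧ 2 * h ≤ n ∧ h ≤ a ∧ a < 2 * h := by
        by_cases hev : Even a
        · have : r ≠ 1 := fun e => hodd ⟨e, hev⟩
          obtain ⟨k, hk⟩ := hev
          exact ⟨k + 1, by omega, by omega, by omega, by omega⟩
        · obtain ⟨k, hk⟩ := Nat.not_even_iff_odd.1 hev
          exact ⟨k + 1, by omega, by omega, by omega, by omega⟩
      obtain ⟨f, e0, e1, e2, hf⟩ := key _ (wreath_pi (n := n) π (h := h) h2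
        fun p hp hph => hpa p hp (hph.trans hha))
      set u₀ : Fin n := ⟨0, by omega⟩ with hu₀
      have hall2 : ∀ v : Fin n, (v : ℕ) < 2 * h → f v = f u₀ := by
        intro v hv
        obtain ⟨x, ⟨hxA, hx⟩, hxv⟩ := wreath_trans hh3 hhn (u := u₀) (by simp [hu₀]; omega) hv
        rw [← hxv]
        exact fix' (hf _ hx) e0 e1 e2 u₀
      have hle : Nat.card {u : Fin n // (u : ℕ) < 2 * h} ≤ Nat.card {x // f x = f u₀} :=
        card_mono hall2
      rw [card_blk hhn] at hle
      rcases fin3_cases (f u₀) with e | e | e <;> rw [e] at hle <;> omega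
  · subst b
    obtain ⟨h, hh⟩ : ∃ h, a = h + 1 := ⟨a - 1, by omega⟩
    obtain ⟨f, e0, e1, e2, hf⟩ := key _ (wreath_pi (n := n) π (h := h) h2
      fun p hp hph => hpa p hp (by omega))
    -- a fixed point outside the small class
    obtain ⟨w, hw, hwR⟩ : ∃ w : Fin n, 2 * h ≤ (w : ℕ) ∧ f w ≠ 2 := by
      by_contra hno
      push Not at hno
      have hle : Nat.card {u : Fin n // ¬ (u : ℕ) < 2 * h} ≤ Nat.card {x // f x = 2} :=
        card_mono fun u hu => hno u (by omega)
      have htot : Nat.card {u : Fin n // (u : ℕ) < 2 * h} +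
          Nat.card {u : Fin n // ¬ (u : ℕ) < 2 * h} = n := by
        rw [← Nat.card_sum, Nat.card_congr (Equiv.sumCompl _), Nat.card_fin]
      rw [card_blk (by omega)] at htot
      omega
    have hlab : ∀ x ∈ wreath n h, ∀ v, f ((x : Perm (Fin n)) v) = f v := by
      intro x hx v
      have hxw : (x : Perm (Fin n)) w = w := ((mem_subgroupOf.1 hx).2 : ∀ u : Fin n, _) w hw
      have hxN := hf x hx
      have h1 := label_fixed hxN v
      have h2' := (mem_stabN_lab.1 hxN) v w
      rw [hxw] at h2'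
      rcases fin3_cases (f w) with ew | ew | ew <;> rcases fin3_cases (f v) with e | e | e <;>
        rcases fin3_cases (f ((x : Perm (Fin n)) v)) with e' | e' | e' <;> simp_all <;> omega
    set u₀ : Fin n := ⟨0, by omega⟩ with hu₀
    have hall2 : ∀ v : Fin n, (v : ℕ) < 2 * h → f v = f u₀ := by
      intro v hv
      obtain ⟨x, ⟨hxA, hx⟩, hxv⟩ := wreath_trans (n := n) (h := h) (by omega) (by omega) (u := u₀)
        (by simp [hu₀]; omega) hv
      rw [← hxv]
      exact hlab _ hx u₀
    have hle : Nat.card {u : Fin n // (u : ℕ) < 2 * h} ≤ Nat.card {x // f x = f u₀} :=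
      card_mono hall2
    rw [card_blk (by omega)] at hle
    rcases fin3_cases (f u₀) with e | e | e <;> rw [e] at hle <;> omega

end Cfsg.Agent.KnownC.AnHall
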