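import Mathlib

/-!
# Binomial coefficients prime to `2` and `3`, used for Hall subgroups of symmetric groups
-/

set_option autoImplicit false

namespace Cfsg.Agent.KnownC.AnHall

/-- If `p` does not divide `C(x + y, x)`, adding `x` and `y` in base `p` has no carries. -/
lemma no_carry {p x y : ℕ} (hp : p.Prime) (h : ¬ p ∣ (x + y).choose x) :
    ∀ i, x % p ^ i + y % p ^ i < p ^ i := by
  intro i
  by_contra hc
  push Not at hc
  rcases Nat.eq_zero_or_pos i with rfl | hi
  · simp [Nat.mod_one] at hc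
  apply h
  have hle : p ^ i ≤ x + y := hc.trans (Nat.add_le_add (Nat.mod_le _ _) (Nat.mod_le _ _))
  have hf : ((x + y).choose x).factorization p ≠ 0 := by
    rw [Nat.factorization_choose hp (Nat.le_add_right x y) (Nat.lt_succ_self (Nat.log p (x + y))),
      Nat.add_sub_cancel_left, Finset.card_ne_zero]
    refine ⟨i, Finset.mem_filter.2 ⟨Finset.mem_Ico.2 ⟨hi, Nat.lt_succ_of_le ?_⟩, hc⟩⟩
    exact Nat.le_log_of_pow_le hp.one_lt hle
  exact Nat.dvd_of_factorization_pos hf

lemma choose_mul_eq_uniformBell_two (c : ℕ) (hc : c ≠ 0) :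
    (2 * c).choose c = 2 * Nat.uniformBell 2 c := by
  have h1 := Nat.uniformBell_mul_eq 2 hc
  have h2 := Nat.choose_mul_factorial_mul_factorial (show c ≤ 2 * c by omega)
  rw [show 2 * c - c = c by omega, ← h1] at h2
  simp only [Nat.factorial_two] at h2
  refine Nat.eq_of_mul_eq_mul_right (Nat.mul_pos c.factorial_pos c.factorial_pos) ?_
  rw [← mul_assoc, h2]; ring

lemma uniformBell_mul {c k : ℕ} (hc : c ≠ 0) :
    (k * c).factorial = c.factorial ^ k * k.factorial * Nat.uniformBell k c := by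
  rw [← Nat.uniformBell_mul_eq k hc]; ring

lemma dvd_uniformBell_of_le {j k : ℕ} (h : j ≤ k) (c : ℕ) :
    Nat.uniformBell j c ∣ Nat.uniformBell k c := by
  induction k, h using Nat.le_induction with
  | base => exact dvd_rfl
  | succ k _ ih => rw [Nat.uniformBell_succ_left]; exact ih.mul_left _

lemma digits_two_mul (c : ℕ) : (Nat.digits 2 (2 * c)).sum = (Nat.digits 2 c).sum := by
  rcases Nat.eq_zero_or_pos c with rfl | hc
  · simp
  · rw [Nat.digits_def' (by norm_num) (by omega)]
    simp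

lemma digits_three_mul (c : ℕ) : (Nat.digits 3 (3 * c)).sum = (Nat.digits 3 c).sum := by
  rcases Nat.eq_zero_or_pos c with rfl | hc
  · simp
  · rw [Nat.digits_def' (by norm_num) (by omega)]
    simp

lemma eq_zero_of_digits_sum {b : ℕ} (hb : 2 ≤ b) : ∀ c, (Nat.digits b c).sum = 0 → c = 0 := by
  intro c
  induction c using Nat.strong_induction_on with
  | _ c ih =>
    intro h
    by_contra hc
    rw [Nat.digits_def' hb (Nat.pos_of_ne_zero hc), List.sum_cons] at h
    have h1 : c % b = 0 := by omega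
    have h2 := ih (c / b) (Nat.div_lt_self (Nat.pos_of_ne_zero hc) hb) (by omega)
    have h3 := Nat.mod_add_div c b
    rw [h1, h2] at h3
    simp at h3
    exact hc h3.symm

lemma exists_pow_of_digits_sum {b : ℕ} (hb : 2 ≤ b) :
    ∀ c, (Nat.digits b c).sum = 1 → ∃ e, c = b ^ e := by
  intro c
  induction c using Nat.strong_induction_on with
  | _ c ih =>
    intro h
    have hc : c ≠ 0 := by rintro rfl; simp at h
    rw [Nat.digits_def' hb (Nat.pos_of_ne_zero hc), List.sum_cons] at h
    rcases Nat.eq_zero_or_pos (c % b) with h1 | h1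
    · obtain ⟨e, he⟩ := ih (c / b) (Nat.div_lt_self (Nat.pos_of_ne_zero hc) hb) (by omega)
      exact ⟨e + 1, by rw [pow_succ, ← he, mul_comm, Nat.mul_div_cancel' (Nat.dvd_of_mod_eq_zero h1)]⟩
    · have h2 := eq_zero_of_digits_sum hb (c / b) (by omega)
      refine ⟨0, ?_⟩
      have h3 := Nat.mod_add_div c b
      rw [h2] at h3
      simp only [pow_zero]; omega

lemma pow_two_of_odd_uniformBell {c : ℕ} (hc : c ≠ 0) (h : ¬ 2 ∣ Nat.uniformBell 2 c) :
    ∃ e, c = 2 ^ e := by
  haveI : Fact (Nat.Prime 2) := ⟨Nat.prime_two⟩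
  apply exists_pow_of_digits_sum le_rfl
  have hv : padicValNat 2 ((2 * c).choose c) = 1 := by
    rw [choose_mul_eq_uniformBell_two c hc, padicValNat.mul (show (2 : ℕ) ≠ 0 by norm_num) (show Nat.uniformBell 2 c ≠ 0 from fun h0 => h (by rw [h0]; exact dvd_zero 2)),
      padicValNat.self (by norm_num : 1 < 2), padicValNat.eq_zero_of_not_dvd h]
  have hs := sub_one_mul_padicValNat_choose_eq_sub_sum_digits (p := 2) (show c ≤ 2 * c by omega)
  rw [hv, show 2 * c - c = c by omega, digits_two_mul] at hs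
  omega

lemma three_not_dvd_two {c : ℕ} (hc : c ≠ 0) (h : ¬ 3 ∣ Nat.uniformBell 2 c) :
    ¬ 3 ∣ (2 * c).choose c := by
  rw [choose_mul_eq_uniformBell_two c hc]
  intro hd
  exact h ((Nat.prime_three.dvd_mul.1 hd).resolve_left (by norm_num))

/-- With three or more blocks, index prime to `2` and `3` forces blocks of size one. -/
lemma eq_one_of_three {c k : ℕ} (hc : c ≠ 0) (hk : 3 ≤ k) (h2 : ¬ 2 ∣ Nat.uniformBell k c)
    (h3 : ¬ 3 ∣ Nat.uniformBell k c) : c = 1 := by
  haveI : Fact (Nat.Prime 2) := ⟨Nat.prime_two⟩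
  haveI : Fact (Nat.Prime 3) := ⟨Nat.prime_three⟩
  obtain ⟨e, he⟩ := pow_two_of_odd_uniformBell hc
    fun h => h2 (h.trans (dvd_uniformBell_of_le (by omega) c))
  have h32 := three_not_dvd_two hc fun h => h3 (h.trans (dvd_uniformBell_of_le (by omega) c))
  have hs2 := sub_one_mul_padicValNat_choose_eq_sub_sum_digits (p := 3) (show c ≤ 2 * c by omega)
  rw [padicValNat.eq_zero_of_not_dvd h32, show 2 * c - c = c by omega] at hs2
  have hX : ¬ 3 ∣ Nat.uniformBell 3 c := fun h => h3 (h.trans (dvd_uniformBell_of_le hk c))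
  have hchoose : (3 * c).choose c * Nat.uniformBell 2 c = 3 * Nat.uniformBell 3 c := by
    have a3 := Nat.uniformBell_mul_eq 3 hc
    have a2 := Nat.uniformBell_mul_eq 2 hc
    have b := Nat.choose_mul_factorial_mul_factorial (show c ≤ 3 * c by omega)
    rw [show 3 * c - c = 2 * c by omega, ← a3, ← a2] at b
    rw [show (3 : ℕ).factorial = 6 by rfl] at b
    simp only [Nat.factorial_two] at b
    refine Nat.eq_of_mul_eq_mul_right (show 0 < 2 * c.factorial ^ 3 by positivity) ?_
    calc (3 * c).choose c * Nat.uniformBell 2 c * (2 * c.factorial ^ 3)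
        = (3 * c).choose c * c.factorial * (Nat.uniformBell 2 c * c.factorial ^ 2 * 2) := by ring
      _ = Nat.uniformBell 3 c * c.factorial ^ 3 * 6 := b
      _ = _ := by ring
  have hX2 : ¬ 3 ∣ Nat.uniformBell 2 c := fun h => h3 (h.trans (dvd_uniformBell_of_le (by omega) c))
  have hv : padicValNat 3 ((3 * c).choose c) = 1 := by
    have hne2 : Nat.uniformBell 2 c ≠ 0 := fun h0 => hX2 (h0 ▸ dvd_zero 3)
    have hne3 : Nat.uniformBell 3 c ≠ 0 := fun h0 => hX (h0 ▸ dvd_zero 3)
    have hne : (3 * c).choose c ≠ 0 := (Nat.choose_pos (by omega)).ne'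
    have := congrArg (padicValNat 3) hchoose
    rw [padicValNat.mul hne hne2, padicValNat.mul (by norm_num) hne3,
      padicValNat.self (by norm_num : 1 < 3), padicValNat.eq_zero_of_not_dvd hX,
      padicValNat.eq_zero_of_not_dvd hX2] at this
    omega
  have hs3 := sub_one_mul_padicValNat_choose_eq_sub_sum_digits (p := 3) (show c ≤ 3 * c by omega)
  rw [hv, show 3 * c - c = 2 * c by omega, digits_three_mul] at hs3
  have hle : (Nat.digits 3 (2 * c)).sum ≤ 2 * (Nat.digits 3 c).sum := by
    have h := sub_one_mul_padicValNat_choose_eq_sub_sum_digits (p := 3) (show c ≤ 2 * c by omega)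
    have ha := sub_one_mul_padicValNat_factorial (p := 3) (2 * c)
    have hb := sub_one_mul_padicValNat_factorial (p := 3) c
    have hd : padicValNat 3 (c.factorial * c.factorial) ≤ padicValNat 3 (2 * c).factorial := by
      refine (padicValNat_dvd_iff_le (Nat.factorial_ne_zero _)).1 (pow_padicValNat_dvd.trans ?_)
      rw [two_mul]; exact Nat.factorial_mul_factorial_dvd_factorial_add c c
    rw [padicValNat.mul (Nat.factorial_ne_zero _) (Nat.factorial_ne_zero _)] at hd
    have h5 := Nat.digit_sum_le 3 c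
    have h6 := Nat.digit_sum_le 3 (2 * c)
    omega
  obtain ⟨f, hf⟩ := exists_pow_of_digits_sum (b := 3) (by norm_num) c (by omega)
  rcases Nat.eq_zero_or_pos e with rfl | he'
  · simpa using he
  · have h2c : 2 ∣ 3 ^ f := hf ▸ he ▸ dvd_pow_self 2 (by omega)
    exact absurd ((Nat.prime_two.dvd_of_dvd_pow h2c)) (by norm_num)

/-- The ternary constraint for two blocks. -/
lemma lt_of_two {a r : ℕ} (ha : a ≠ 0) (h : ¬ 3 ∣ Nat.uniformBell 2 a)
    (hr : ¬ 3 ∣ (2 * a + r).choose (2 * a)) (hlt : r < 2 * a) :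
    r + 1 ≤ 3 ^ Nat.log 3 a ∧ r < a := by
  set F := Nat.log 3 a
  have h1 : 3 ^ F ≤ a := Nat.pow_log_le_self 3 ha
  have h2 : a < 3 ^ (F + 1) := Nat.lt_pow_succ_log_self (by norm_num) a
  have e := no_carry Nat.prime_three (x := a) (y := a)
    (by rw [← two_mul]; exact three_not_dvd_two ha h) (F + 1)
  rw [Nat.mod_eq_of_lt h2] at e
  have g := no_carry Nat.prime_three hr (F + 1)
  rw [Nat.mod_eq_of_lt (show 2 * a < 3 ^ (F + 1) by omega),
    Nat.mod_eq_of_lt (show r < 3 ^ (F + 1) by omega), pow_succ] at g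
  constructor <;> omega

end Cfsg.Agent.KnownC.AnHall
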