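import Cfsg.Agent.Lib.KnownC.AnHall.SymStructure
import Cfsg.Agent.Lib.KnownC.AnHall.Alt

/-!
# Existence and conjugacy of Hall subgroups of symmetric and alternating groups
-/

set_option autoImplicit false

open Equiv Subgroup

namespace Cfsg.Agent.KnownC.AnHall

/-- At most one prime of `π` divides the order. -/
def AtMostOne (π : Set ℕ) (m : ℕ) : Prop :=
  ∀ p r : ℕ, p.Prime → r.Prime → p ∈ π → r ∈ π → p ∣ m → r ∣ m → p = r

section Group

variable {G : Type*} [Group G] [Finite G] {π : Set ℕ}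

/-- With one prime, π-subgroups are `p`-groups. -/
lemma exists_isPGroup {Q : Subgroup G} (h1 : AtMostOne π (Nat.card G)) (hQ : IsPiSubgroup π Q)
    (hne : Q ≠ ⊥) : ∃ p, p.Prime ∧ p ∈ π ∧ IsPGroup p Q := by
  obtain ⟨p, hp, hd⟩ := Nat.exists_prime_and_dvd (fun h => hne (Subgroup.card_eq_one.1 h))
  refine ⟨p, hp, hQ p hp hd, ?_⟩
  refine IsPGroup.of_card (n := (Nat.card Q).primeFactorsList.length)
    (Nat.eq_prime_pow_of_unique_prime_dvd Nat.card_pos.ne' fun {r} hr hrd => ?_)
  exact h1 r p hr hp (hQ r hr hrd) (hQ p hp hd) (hrd.trans (card_subgroup_dvd_card Q))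
    (hd.trans (card_subgroup_dvd_card Q))

lemma le_conj_hall {H Q : Subgroup G} (h1 : AtMostOne π (Nat.card G)) (hH : IsPiHall π H)
    (hQ : IsPiSubgroup π Q) : ∃ g : G, Q.map (MulAut.conj g).toMonoidHom ≤ H := by
  by_cases hne : Q = ⊥
  · exact ⟨1, by subst hne; rw [Subgroup.map_bot]; exact bot_le⟩
  obtain ⟨p, hp, hpi, hQp⟩ := exists_isPGroup h1 hQ hne
  haveI := Fact.mk hp
  obtain ⟨g, hg⟩ := exists_conj_mem_top (hH.2 p hp hpi) hQp
  refine ⟨g, ?_⟩
  rintro _ ⟨x, hx, rfl⟩
  exact hg x hx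

lemma card_map_conj (H : Subgroup G) (g : G) :
    Nat.card (H.map (MulAut.conj g).toMonoidHom) = Nat.card H :=
  card_map_of_injective (MulEquiv.injective _)

lemma hall_conj_of_atMostOne {H K : Subgroup G} (h1 : AtMostOne π (Nat.card G))
    (hH : IsPiHall π H) (hK : IsPiHall π K) :
    ∃ g : G, K = H.map (MulAut.conj g).toMonoidHom := by
  obtain ⟨g, hg⟩ := le_conj_hall h1 hK hH.1
  exact ⟨g, (Subgroup.eq_of_le_of_card_ge hg (by rw [card_map_conj, hall_card_eq hH hK])).symm⟩

lemma exists_hall_of_atMostOne (h1 : AtMostOne π (Nat.card G)) : ∃ H : Subgroup G, IsPiHall π H := by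
  by_cases h : ∃ p, p.Prime ∧ p ∈ π ∧ p ∣ Nat.card G
  · obtain ⟨p, hp, hpi, hpd⟩ := h
    haveI := Fact.mk hp
    obtain ⟨P⟩ := (Sylow.nonempty : Nonempty (Sylow p G))
    refine ⟨P, fun r hr hd => ?_, fun r hr hri hd => ?_⟩
    · obtain ⟨k, hk⟩ := IsPGroup.iff_card.1 P.2
      rw [hk] at hd
      rwa [(Nat.prime_dvd_prime_iff_eq hr hp).1 (hr.dvd_of_dvd_pow hd)]
    · have := h1 r p hr hp hri hpi (hd.trans (index_dvd_card (P : Subgroup G))) hpd
      subst this
      exact P.not_dvd_index hd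
  · push Not at h
    refine ⟨⊥, fun r hr hd => ?_, fun r hr hri hd => h r hr hri (by rwa [index_bot] at hd)⟩
    rw [card_bot, Nat.dvd_one] at hd
    exact absurd hd hr.ne_one

end Group

section Perm

variable {α : Type*} [Fintype α] [DecidableEq α] {π : Set ℕ}

lemma prime_dvd_perm {p : ℕ} (hp : p.Prime) :
    p ∣ Nat.card (Perm α) ↔ p ≤ Fintype.card α := by
  rw [Nat.card_perm, Nat.card_eq_fintype_card, hp.dvd_factorial]

lemma le_of_dvd_alt {p : ℕ} (hp : p.Prime) (h : p ∣ Nat.card (alternatingGroup α)) :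
    p ≤ Fintype.card α :=
  (prime_dvd_perm hp).1 (h.trans (card_subgroup_dvd_card _))

/-- A π-Hall subgroup of `A_n` forces one prime or `2, 3 ∈ π`. -/
lemma alt_cases {M : Subgroup (alternatingGroup α)} (hM : IsPiHall π M) :
    AtMostOne π (Nat.card (Perm α)) ∨ (2 ∈ π ∧ 3 ∈ π ∧ 3 ≤ Fintype.card α) := by
  by_cases h1 : AtMostOne π (Nat.card (Perm α))
  · exact Or.inl h1
  right
  unfold AtMostOne at h1
  push Not at h1
  obtain ⟨p, r, hp, hr, hpi, hri, hpd, hrd, hne⟩ := h1
  rw [prime_dvd_perm hp] at hpd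
  rw [prime_dvd_perm hr] at hrd
  wlog hlt : p < r generalizing p r
  · exact this r p hr hp hri hpi hrd hpd hne.symm (by omega)
  have hp2' := hp.two_le
  have hr3 : 3 ≤ r := by omega
  by_cases h2 : 2 ∈ π
  · refine ⟨h2, ?_, hr3.trans hrd⟩
    by_contra h3
    have hne3 : r ≠ 3 := fun h => h3 (h ▸ hri)
    have hne4 : r ≠ 4 := fun h => by subst h; exact absurd hr (by decide)
    exact false_of_two_no_three hM h2 h3 hr hri (by omega) hrd
  · exfalso
    have hH := hall_map_of_two_not_mem M hM h2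
    refine false_of_two_odd (H := M.map (alternatingGroup α).subtype) ?_ hp hr
      (fun h => h2 (h ▸ hpi)) hlt hrd (hH.2 p hp hpi) (hH.2 r hr hri)
    rw [← Nat.not_even_iff_odd, even_iff_two_dvd]
    exact fun h => h2 (hH.1 2 Nat.prime_two h)

lemma sym_cases {H : Subgroup (Perm α)} (hH : IsPiHall π H) :
    AtMostOne π (Nat.card (Perm α)) ∨ (2 ∈ π ∧ 3 ∈ π ∧ 3 ≤ Fintype.card α) :=
  alt_cases (hall_subgroupOf (alternatingGroup α) hH)

lemma atMostOne_alt (h : AtMostOne π (Nat.card (Perm α))) :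
    AtMostOne π (Nat.card (alternatingGroup α)) := fun p r hp hr hpi hri hpd hrd =>
  h p r hp hr hpi hri (hpd.trans (card_subgroup_dvd_card _)) (hrd.trans (card_subgroup_dvd_card _))

lemma exists_sym_hall' {M : Subgroup (alternatingGroup α)} (hM : IsPiHall π M) :
    ∃ M₀ : Subgroup (Perm α), IsPiHall π M₀ ∧ M = M₀.subgroupOf (alternatingGroup α) := by
  by_cases h2 : 2 ∈ π
  · rcases alt_cases hM with h1 | ⟨-, h3, hn⟩
    · obtain ⟨H, hH⟩ := exists_hall_of_atMostOne h1
      obtain ⟨g, hg⟩ := le_conj_hall h1 hH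
        (Q := M.map (alternatingGroup α).subtype) (fun p hp hd => hM.1 p hp (card_map_alt M ▸ hd))
      set H' := H.map (MulAut.conj g⁻¹).toMonoidHom with hH'def
      have hH' : IsPiHall π H' :=
        ⟨fun p hp hd => hH.1 p hp (by rwa [card_map_conj] at hd),
          fun p hp hpi => by
            rw [hH'def, show (H.map (MulAut.conj g⁻¹).toMonoidHom).index = H.index from
              index_map_equiv H (MulAut.conj g⁻¹)]
            exact hH.2 p hp hpi⟩
      refine ⟨H', hH', eq_subgroupOf_of_le hM (fun x hx => ?_) hH'.1⟩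
      exact ⟨g * x * g⁻¹, hg ⟨x, hx, rfl⟩, by simp [MulAut.conj_apply, mul_assoc]⟩
    · exact exists_sym_hall hM h2 h3 hn
  · exact ⟨_, hall_map_of_two_not_mem M hM h2, (subgroupOf_map_alt M).symm⟩

lemma factorial_mul_lt {A R : ℕ} (hRA : R ≤ A) : ∀ {j : ℕ}, 0 < j → j ≤ R →
    A.factorial * R.factorial < (A + j).factorial * (R - j).factorial := by
  intro j
  induction j with
  | zero => intro h; omega
  | succ j ih =>
    intro _ hj
    have step : (A + j).factorial * (R - j).factorial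
        < (A + (j + 1)).factorial * (R - (j + 1)).factorial := by
      rw [← add_assoc, Nat.factorial_succ, show R - j = R - (j + 1) + 1 by omega, Nat.factorial_succ]
      have h1 : R - (j + 1) + 1 < A + j + 1 := by omega
      have h2 := Nat.mul_pos (A + j).factorial_pos (R - (j + 1)).factorial_pos
      calc (A + j).factorial * ((R - (j + 1) + 1) * (R - (j + 1)).factorial)
          = (R - (j + 1) + 1) * ((A + j).factorial * (R - (j + 1)).factorial) := by ring
        _ < (A + j + 1) * ((A + j).factorial * (R - (j + 1)).factorial) :=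
            Nat.mul_lt_mul_of_pos_right h1 h2
        _ = _ := by ring
    rcases Nat.eq_zero_or_pos j with rfl | hj0
    · simpa using step
    · exact (ih hj0 (by omega)).trans step

lemma shape_unique {n a b r a' b' r' : ℕ} (h : Shape n a b r) (h' : Shape n a' b' r')
    (he : shapeCard a b r = shapeCard a' b' r') : a = a' ∧ b = b' ∧ r = r' := by
  have t12 : ∀ {a b r a' b' r' : ℕ}, b = 0 → r < a → 2 ^ Nat.log 2 n ≤ a → a + r = n →
      b' = a' → 4 ≤ a' → r' + 2 ≤ a' → (∃ e, a' = 2 ^ e) → 2 * a' + r' = n →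
      shapeCard a' b' r' < shapeCard a b r := by
    intro a b r a' b' r' hb hr hlog hsum hb' ha' hr' ⟨e, he⟩ hsum'
    subst hb
    subst b'
    have hlogn : Nat.log 2 n = e + 1 :=
      Nat.log_eq_of_pow_le_of_lt_pow (by rw [pow_succ, ← he]; omega)
        (by rw [pow_succ, pow_succ, ← he]; omega)
    rw [hlogn, pow_succ, ← he] at hlog
    have hge : (2 * a').factorial * r'.factorial ≤ a.factorial * r.factorial := by
      rcases Nat.eq_or_lt_of_le (show 2 * a' ≤ a by omega) with h | h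
      · rw [← h, show r = r' by omega]
      · have := factorial_mul_lt (A := 2 * a') (R := r') (by omega) (j := a - 2 * a') (by omega) (by omega)
        rw [show 2 * a' + (a - 2 * a') = a by omega, show r' - (a - 2 * a') = r by omega] at this
        exact this.le
    have hc : 2 * (a'.factorial * a'.factorial) < (2 * a').factorial := by
      have h1 := Nat.choose_mul_factorial_mul_factorial (show a' ≤ 2 * a' by omega)
      rw [show 2 * a' - a' = a' by omega] at h1
      have h2 := Nat.choose_le_middle 1 (2 * a')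
      rw [Nat.choose_one_right, Nat.mul_div_cancel_left a' (by norm_num : 0 < 2)] at h2
      rw [← h1, mul_assoc]
      exact Nat.mul_lt_mul_of_pos_right (by omega) (Nat.mul_pos a'.factorial_pos a'.factorial_pos)
    unfold shapeCard
    rw [if_pos rfl, if_neg (by omega), Nat.factorial_zero, mul_one, one_mul]
    calc 2 * (a'.factorial * a'.factorial * r'.factorial)
        = 2 * (a'.factorial * a'.factorial) * r'.factorial := by ring
      _ < (2 * a').factorial * r'.factorial := Nat.mul_lt_mul_of_pos_right hc r'.factorial_pos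
      _ ≤ _ := hge
  rcases h with ⟨hb, hr, hlog, hsum⟩ | ⟨hb, ha, hr, hpow, hsum⟩ <;>
    rcases h' with ⟨hb', hr', hlog', hsum'⟩ | ⟨hb', ha', hr', hpow', hsum'⟩
  · subst hb hb'
    have key : ∀ {A R A' R' : ℕ}, R < A → A < A' → A + R = n → A' + R' = n →
        A.factorial * R.factorial ≠ A'.factorial * R'.factorial := by
      intro A R A' R' h1 h2 h3 h4
      have := factorial_mul_lt (A := A) (R := R) h1.le (j := A' - A) (by omega) (by omega)
      rw [show A + (A' - A) = A' by omega, show R - (A' - A) = R' by omega] at this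
      exact this.ne
    simp only [shapeCard, if_true, Nat.factorial_zero, mul_one, one_mul] at he
    rcases Nat.lt_trichotomy a a' with h | h | h
    · exact absurd he (key hr h hsum hsum')
    · exact ⟨h, rfl, by omega⟩
    · exact absurd he.symm (key hr' h hsum' hsum)
  · exact absurd he.symm (t12 hb hr hlog hsum hb' ha' hr' hpow' hsum').ne
  · exact absurd he (t12 hb' hr' hlog' hsum' hb ha hr hpow hsum).ne
  · obtain ⟨e, rfl⟩ := hpow
    obtain ⟨e', rfl⟩ := hpow'
    have : e = e' := by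
      rcases Nat.lt_trichotomy e e' with h | h | h
      · have := Nat.pow_le_pow_right (show 0 < 2 by norm_num) (show e + 1 ≤ e' by omega)
        rw [pow_succ] at this; omega
      · exact h
      · have := Nat.pow_le_pow_right (show 0 < 2 by norm_num) (show e' + 1 ≤ e by omega)
        rw [pow_succ] at this; omega
    subst this
    exact ⟨rfl, hb.trans hb'.symm, by omega⟩

lemma conj_of_hasShape {H K : Subgroup (Perm α)} {a b r : ℕ} (hH : HasShape H a b r)
    (hK : HasShape K a b r) : ∃ g : Perm α, K = H.map (MulAut.conj g).toMonoidHom := by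
  obtain ⟨f, h0, h1, h2, rfl⟩ := hH
  obtain ⟨f', h0', h1', h2', rfl⟩ := hK
  have hi : ∀ i, Nonempty ({x // f x = i} ≃ {x // f' x = i}) := fun i => by
    rw [← Fintype.card_eq, ← Nat.card_eq_fintype_card, ← Nat.card_eq_fintype_card]
    fin_cases i
    · exact h0.trans h0'.symm
    · exact h1.trans h1'.symm
    · exact h2.trans h2'.symm
  set g : Perm α := Equiv.ofFiberEquiv fun i => (hi i).some with hg
  have hgf : ∀ x, f' (g x) = f x := fun x => Equiv.ofFiberEquiv_map _ x
  refine ⟨g, le_antisymm ?_ ?_⟩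
  · intro y hy
    refine ⟨g⁻¹ * y * g, ?_, by simp [MulAut.conj_apply, mul_assoc]⟩
    rw [SetLike.mem_coe, mem_stabN_lab]
    intro u v
    rw [← hgf, ← hgf, ← hgf u, ← hgf v]
    simp only [Perm.mul_apply, show ∀ z, g (g⁻¹ z) = z from fun z => g.apply_symm_apply z]
    exact (mem_stabN_lab.1 hy) _ _
  · rintro _ ⟨x, hx, rfl⟩
    rw [mem_stabN_lab]
    intro u v
    have := (mem_stabN_lab.1 hx) (g⁻¹ u) (g⁻¹ v)
    rw [← hgf, ← hgf, ← hgf (g⁻¹ u), ← hgf (g⁻¹ v),
      show g (g⁻¹ u) = u from g.apply_symm_apply u, show g (g⁻¹ v) = v from g.apply_symm_apply v] at this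
    simpa [MulAut.conj_apply] using this

theorem sym_hall_conj {H K : Subgroup (Perm α)} (hH : IsPiHall π H) (hK : IsPiHall π K) :
    ∃ g : Perm α, K = H.map (MulAut.conj g).toMonoidHom := by
  rcases sym_cases hH with h1 | ⟨h2, h3, hn⟩
  · exact hall_conj_of_atMostOne h1 hH hK
  obtain ⟨a, b, r, hs, hsh, hc, -⟩ := hall_shape hH h2 h3 (by omega)
  obtain ⟨a', b', r', hs', hsh', hc', -⟩ := hall_shape hK h2 h3 (by omega)
  obtain ⟨rfl, rfl, rfl⟩ := shape_unique hs hs' (by rw [← hc, ← hc', hall_card_eq hH hK])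
  exact conj_of_hasShape hsh hsh'

lemma exists_odd_mem {H : Subgroup (Perm α)} (hH : IsPiHall π H) (h2 : 2 ∈ π)
    (hn : 2 ≤ Fintype.card α) : ∃ h ∈ H, Perm.sign h = -1 := by
  haveI := Fact.mk Nat.prime_two
  obtain ⟨σ, hσ, hc, -⟩ := exists_cycle (α := α) le_rfl Finset.univ (by simpa using hn)
  obtain ⟨g, -, hg⟩ := exists_conj_elem (S := ⊤) le_top (hH.2 2 Nat.prime_two h2) (mem_top σ) (k := 1)
    (by rw [pow_one]; exact cycle_pow_eq_one hσ hc)
  exact ⟨_, hg, by rw [map_mul, map_mul, map_inv, hσ.sign, hc]; simp⟩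

theorem alt_hall_conj {M M' : Subgroup (alternatingGroup α)} (hM : IsPiHall π M)
    (hM' : IsPiHall π M') :
    ∃ g : alternatingGroup α, M' = M.map (MulAut.conj g).toMonoidHom := by
  rcases alt_cases hM with h1 | ⟨h2, -, hn⟩
  · exact hall_conj_of_atMostOne (atMostOne_alt h1) hM hM'
  obtain ⟨H, hH, rfl⟩ := exists_sym_hall' hM
  obtain ⟨H', hH', rfl⟩ := exists_sym_hall' hM'
  obtain ⟨g, rfl⟩ := sym_hall_conj hH hH'
  obtain ⟨h, hh, hsgn⟩ := exists_odd_mem hH h2 (by omega)
  obtain ⟨g', hg', hge⟩ : ∃ g' : Perm α, g' ∈ alternatingGroup α ∧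
      ∀ x, x ∈ H.map (MulAut.conj g).toMonoidHom ↔ x ∈ H.map (MulAut.conj g').toMonoidHom := by
    rcases Int.units_eq_one_or (Perm.sign g) with hg | hg
    · exact ⟨g, hg, fun x => Iff.rfl⟩
    · refine ⟨g * h, by rw [Perm.mem_alternatingGroup, map_mul, hg, hsgn]; rfl, fun x => ?_⟩
      simp only [mem_map, MulEquiv.coe_toMonoidHom, MulAut.conj_apply]
      constructor
      · rintro ⟨y, hy, rfl⟩
        exact ⟨h⁻¹ * y * h, H.mul_mem (H.mul_mem (H.inv_mem hh) hy) hh, by group⟩
      · rintro ⟨y, hy, rfl⟩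
        exact ⟨h * y * h⁻¹, H.mul_mem (H.mul_mem hh hy) (H.inv_mem hh), by group⟩
  refine ⟨⟨g', hg'⟩, Subgroup.ext fun x => ?_⟩
  rw [mem_subgroupOf, hge]
  simp only [mem_map, MulEquiv.coe_toMonoidHom, MulAut.conj_apply, mem_subgroupOf]
  constructor
  · rintro ⟨y, hy, hyx⟩
    have hyA : y ∈ alternatingGroup α := by
      have hx : Perm.sign (x : Perm α) = 1 := x.2
      rw [← hyx, map_mul, map_mul, map_inv, mul_right_comm, mul_inv_cancel, one_mul] at hx
      exact hx
    exact ⟨⟨y, hyA⟩, hy, Subtype.ext hyx⟩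
  · rintro ⟨y, hy, rfl⟩
    exact ⟨y, hy, rfl⟩

end Perm

end Cfsg.Agent.KnownC.AnHall
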