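import Cfsg.Agent.Lib.KnownC.AnHall.Basic
import Cfsg.Agent.Lib.KnownC.AnHall.Digits

/-!
# The shape of a Hall subgroup of a symmetric group whose primes include `2` and `3`

Such a subgroup is the stabiliser of a partition with fibres of sizes `(a, 0, r)` or `(a, a, r)`.
-/

set_option autoImplicit false

open Equiv Subgroup

namespace Cfsg.Agent.KnownC.AnHall

variable {α : Type*} [Fintype α]

/-- Fibre sizes of the possible partitions. -/
def Shape (n a b r : ℕ) : Prop :=
  (b = 0 ∧ r < a ∧ 2 ^ Nat.log 2 n ≤ a ∧ a + r = n) ∨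
    (b = a ∧ 4 ≤ a ∧ r + 2 ≤ a ∧ (∃ e, a = 2 ^ e) ∧ 2 * a + r = n)

/-- The partition attached to a labelling. -/
def lab (f : α → Fin 3) : Setoid α := Setoid.ker f

lemma mem_stabN_lab {f : α → Fin 3} {x : Perm α} :
    x ∈ stabN (lab f) ↔ ∀ u v, f (x u) = f (x v) ↔ f u = f v := Iff.rfl

/-- `H` is the stabiliser of a partition of shape `(a, b, r)`. -/
def HasShape (H : Subgroup (Perm α)) (a b r : ℕ) : Prop :=
  ∃ f : α → Fin 3, Nat.card {x // f x = 0} = a ∧ Nat.card {x // f x = 1} = b ∧
    Nat.card {x // f x = 2} = r ∧ H = stabN (lab f)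

/-- The order of such a stabiliser. -/
def shapeCard (a b r : ℕ) : ℕ :=
  (if b = 0 then 1 else 2) * (a.factorial * b.factorial * r.factorial)

lemma prod_factorial_dvd {ι : Type*} [DecidableEq ι] (s : Finset ι) (u : ι → ℕ) {i : ι}
    (hi : i ∈ s) : (u i).factorial ∣ (∑ j ∈ s, u j).factorial :=
  Nat.factorial_dvd_factorial (Finset.single_le_sum (fun j _ => Nat.zero_le _) hi)

lemma sum_lt_pow {ι : Type*} [DecidableEq ι] (u : ι → ℕ) (L : ℕ) :
    ∀ s : Finset ι, ¬ 2 ∣ Nat.multinomial s u → (∀ i ∈ s, u i < 2 ^ L) →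
      ∑ i ∈ s, u i < 2 ^ L := by
  intro s
  induction s using Finset.induction with
  | empty => intro _ _; simp
  | insert a s ha ih =>
    intro h hu
    rw [Nat.multinomial_insert ha] at h
    have h1 : ∑ i ∈ s, u i < 2 ^ L := ih (fun hd => h (hd.mul_left _))
      fun i hi => hu i (Finset.mem_insert_of_mem hi)
    have h2 := no_carry Nat.prime_two (fun hd => h (hd.mul_right _)) L
    rw [Nat.mod_eq_of_lt (hu a (Finset.mem_insert_self a s)), Nat.mod_eq_of_lt h1] at h2
    rwa [Finset.sum_insert ha]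

lemma eq_one_of_forall_prime_not_dvd {m r : ℕ} (hm : m ∣ r.factorial)
    (h : ∀ p, p.Prime → p ≤ r → ¬ p ∣ m) : m = 1 := by
  by_contra hne
  obtain ⟨p, hp, hd⟩ := Nat.exists_prime_and_dvd hne
  exact h p hp (hp.dvd_factorial.1 (hd.trans hm)) hd

lemma two_le_choose {x y : ℕ} (hx : 0 < x) (hy : 0 < y) : 2 ≤ (x + y).choose x := by
  obtain ⟨x, rfl⟩ : ∃ x', x = x' + 1 := ⟨x - 1, by omega⟩
  rw [show x + 1 + y = x + y + 1 by omega, Nat.choose_succ_succ']
  have h1 := Nat.choose_pos (show x ≤ x + y by omega)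
  have h2 := Nat.choose_pos (show x + 1 ≤ x + y by omega)
  omega

section

variable {π : Set ℕ} {H : Subgroup (Perm α)} [DecidableEq α]

/-- Two points are related when their transposition lies in `H`. -/
def swapRel (H : Subgroup (Perm α)) : Setoid α where
  r a b := swap a b ∈ H
  iseqv := ⟨fun a => by rw [Equiv.swap_self]; exact H.one_mem,
    fun h => by rwa [Equiv.swap_comm], fun h h' => SubmonoidClass.swap_mem_trans H h h'⟩

lemma le_stabN_swapRel (H : Subgroup (Perm α)) : H ≤ stabN (swapRel H) := by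
  intro x hx a b
  show swap (x a) (x b) ∈ H ↔ swap a b ∈ H
  rw [← mul_inv_eq_iff_eq_mul.2 (mul_swap_eq_swap_mul x a b),
    H.mul_mem_cancel_right (H.inv_mem hx), H.mul_mem_cancel_left hx]

lemma stabK_swapRel_le (H : Subgroup (Perm α)) : stabK (swapRel H) ≤ H := by
  intro x hx
  refine (closure_le H (k := {f | f ∈ H ∧ f.IsSwap})).2 (fun f hf => hf.1) ?_
  rw [mem_closure_isSwap fun f hf => hf.2]
  refine ⟨Set.toFinite _, fun a => ?_⟩
  by_cases h : x a = a
  · rw [h]; exact MulAction.mem_orbit_self a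
  · exact ⟨⟨swap (x a) a, subset_closure ⟨hx a, _, _, h, rfl⟩⟩, swap_apply_right _ _⟩

lemma prime_mem_of_le_class (hH : IsPiHall π H) [Fintype (Quotient (swapRel H))]
    {c : Quotient (swapRel H)} {p : ℕ} (hp : p.Prime) (h : p ≤ classSize (swapRel H) c) :
    p ∈ π :=
  hH.1 p hp (((hp.dvd_factorial.2 h).trans (by
    rw [card_stabK]; exact Finset.dvd_prod_of_mem _ (Finset.mem_univ c))).trans
      (Subgroup.card_dvd_of_le (stabK_swapRel_le H)))

/-- **Shape of Hall subgroups of symmetric groups.** -/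
theorem hall_shape (hH : IsPiHall π H) (h2 : 2 ∈ π) (h3 : 3 ∈ π) (hn : 1 ≤ Fintype.card α) :
    ∃ a b r, Shape (Fintype.card α) a b r ∧ HasShape H a b r ∧
      Nat.card H = shapeCard a b r ∧ (∀ p : ℕ, p.Prime → p ≤ a → p ∈ π) := by
  classical
  set s := swapRel H with hs
  set n := Fintype.card α with hndef
  set size : Quotient s → ℕ := classSize s with hsize
  set G : Finset ℕ := Finset.univ.image size with hG
  set k : ℕ → ℕ := fun g => Nat.card {c // size c = g} with hk
  set u : ℕ → ℕ := fun g => k g * g with hu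
  have hk' : ∀ g, k g = (Finset.univ.filter fun c => size c = g).card := fun g => by
    rw [hk]; simp [Nat.card_eq_fintype_card, Fintype.card_subtype]
  have hGpos : ∀ g ∈ G, g ≠ 0 ∧ k g ≠ 0 := by
    intro g hg
    obtain ⟨c, -, rfl⟩ := Finset.mem_image.1 hg
    refine ⟨(classSize_pos s c).ne', ?_⟩
    rw [hk', Finset.card_ne_zero]
    exact ⟨c, by simp⟩
  have hsum : ∑ g ∈ G, u g = n := by
    rw [hndef, ← sum_classSize s, Finset.sum_comp (fun g => g) size]
    exact Finset.sum_congr rfl fun g _ => by rw [hu]; simp [hk', mul_comm]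
  have hB : partBound s = ∏ g ∈ G, (g.factorial ^ k g * (k g).factorial) := by
    rw [partBound, Finset.prod_mul_distrib]
    congr 1
    rw [Finset.prod_comp Nat.factorial size]
    exact Finset.prod_congr rfl fun g _ => by rw [hk']
  set Y := (∏ g ∈ G, Nat.uniformBell (k g) g) * Nat.multinomial G u with hY
  have hn' : n.factorial = partBound s * Y := by
    rw [← hsum, ← Nat.multinomial_spec, hY, ← mul_assoc, hB, ← Finset.prod_mul_distrib]
    congr 1
    exact Finset.prod_congr rfl fun g hg => uniformBell_mul (hGpos g hg).1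
  obtain ⟨t, ht⟩ := (Subgroup.card_dvd_of_le (le_stabN_swapRel H)).trans (card_stabN_dvd s)
  have hindex : H.index = t * Y := by
    refine Nat.eq_of_mul_eq_mul_left (Nat.card_pos (α := H)) ?_
    rw [card_mul_index, Nat.card_perm, Nat.card_eq_fintype_card, ← hndef, hn', ht, mul_assoc]
  have hnd : ∀ p, p.Prime → p ∈ π → ∀ g ∈ G, ¬ p ∣ Nat.uniformBell (k g) g :=
    fun p hp hpi g hg hd => hH.2 p hp hpi (by
      rw [hindex, hY]
      exact ((hd.trans (Finset.dvd_prod_of_mem (fun g => Nat.uniformBell (k g) g) hg)).mul_right _).mul_left _)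
  have hmn : ∀ p, p.Prime → p ∈ π → ¬ p ∣ Nat.multinomial G u :=
    fun p hp hpi hd => hH.2 p hp hpi (by rw [hindex, hY]; exact (hd.mul_left _).mul_left _)
  -- at most one fixed point
  have hone : k 1 ≤ 1 := by
    by_contra hlt
    push Not at hlt
    rw [hk', Finset.one_lt_card] at hlt
    obtain ⟨c, hc, d, hd, hne⟩ := hlt
    rw [Finset.mem_filter] at hc hd
    obtain ⟨a, rfl⟩ := Quotient.exists_rep c
    obtain ⟨b, rfl⟩ := Quotient.exists_rep d
    have single : ∀ {a : α}, size (Quotient.mk s a) = 1 → ∀ x, s.r x a → x = a := by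
      intro a ha x hx
      rw [hsize, classSize_mk, Nat.card_eq_one_iff_unique] at ha
      exact congrArg Subtype.val (@Subsingleton.elim _ ha.1 ⟨x, hx⟩ ⟨a, s.refl' a⟩)
    have hab : a ≠ b := fun h => hne (h ▸ rfl)
    have hsN : swap a b ∈ stabN s := by
      intro x y
      have key : ∀ {x y}, s.r x y → s.r (swap a b x) (swap a b y) := by
        intro x y hxy
        by_cases hxa : x = a
        · subst hxa; rw [single hc.2 y (s.symm' hxy)]
        by_cases hxb : x = b
        · subst hxb; rw [single hd.2 y (s.symm' hxy)]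
        have hya : y ≠ a := fun h => hxa (single hc.2 x (h ▸ hxy))
        have hyb : y ≠ b := fun h => hxb (single hd.2 x (h ▸ hxy))
        rwa [swap_apply_of_ne_of_ne hxa hxb, swap_apply_of_ne_of_ne hya hyb]
      refine ⟨fun h => ?_, key⟩
      have := key h
      rwa [swap_apply_self, swap_apply_self] at this
    haveI : Fact (Nat.Prime 2) := ⟨Nat.prime_two⟩
    obtain ⟨g, hg, hmem⟩ := exists_conj_elem (le_stabN_swapRel H) (hH.2 2 Nat.prime_two h2) hsN
      (k := 1) (by rw [pow_one, pow_two, swap_mul_self])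
    rw [mul_swap_eq_swap_mul, mul_assoc, mul_inv_cancel, mul_one] at hmem
    exact hne (Quotient.sound ((hg a b).1 hmem))
  have hk2 : ∀ g ∈ G, k g ≤ 2 := by
    intro g hg
    by_contra hlt
    have := eq_one_of_three (hGpos g hg).1 (show 3 ≤ k g by omega)
      (hnd 2 Nat.prime_two h2 g hg) (hnd 3 Nat.prime_three h3 g hg)
    subst this; omega
  have hprime : ∀ g ∈ G, ∀ p : ℕ, p.Prime → p ≤ g → p ∈ π := by
    intro g hg p hp hpg
    obtain ⟨c, -, rfl⟩ := Finset.mem_image.1 hg
    exact prime_mem_of_le_class hH hp hpg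
  -- the bound is attained, so `H` is the whole stabiliser
  have hcardH : Nat.card H = partBound s := by
    refine Nat.dvd_antisymm ⟨t, ht⟩ ?_
    have hco : (partBound s).Coprime H.index := by
      refine Nat.coprime_of_dvd fun p hp hd h' => hH.2 p hp ?_ h'
      rw [hB, hp.prime.dvd_finsetProd_iff] at hd
      obtain ⟨g, hg, hd⟩ := hd
      rcases hp.dvd_mul.1 hd with h | h
      · exact hprime g hg p hp (hp.dvd_factorial.1 (hp.dvd_of_dvd_pow h))
      · have h1 := hp.dvd_factorial.1 h
        have h2' := hk2 g hg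
        have h3' := hp.two_le
        rwa [show p = 2 by omega]
    refine hco.dvd_of_dvd_mul_right ?_
    rw [card_mul_index, Nat.card_perm, Nat.card_eq_fintype_card, ← hndef, hn']
    exact Dvd.intro _ rfl
  have hHN : H = stabN s := Subgroup.eq_of_le_of_card_ge (le_stabN_swapRel H)
    (Nat.le_of_dvd Nat.card_pos (hcardH ▸ card_stabN_dvd s))
  -- the large part
  set L := Nat.log 2 n with hL
  have hnL : 2 ^ L ≤ n := Nat.pow_log_le_self 2 (by omega)
  have hnU : n < 2 ^ (L + 1) := Nat.lt_pow_succ_log_self (by norm_num) n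
  obtain ⟨g₀, hg₀, hbig⟩ : ∃ g ∈ G, 2 ^ L ≤ u g := by
    by_contra hno
    push Not at hno
    have := sum_lt_pow u L G (hmn 2 Nat.prime_two h2) hno
    omega
  set r := ∑ g ∈ G.erase g₀, u g with hr
  have hnr : u g₀ + r = n := by rw [hr, Finset.add_sum_erase G u hg₀, hsum]
  have hsplit : Nat.multinomial G u = (u g₀ + r).choose (u g₀) * Nat.multinomial (G.erase g₀) u := by
    conv_lhs => rw [← Finset.insert_erase hg₀]
    rw [Nat.multinomial_insert (Finset.notMem_erase g₀ G)]
  have hrL : r < 2 ^ L := by rw [pow_succ] at hnU; omega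
  have hk0 : k g₀ = 1 ∨ k g₀ = 2 := by have := (hGpos g₀ hg₀).2; have := hk2 g₀ hg₀; omega
  have hr2 : k g₀ = 2 → r + 2 ≤ g₀ ∧ 4 ≤ g₀ ∧ ∃ e, g₀ = 2 ^ e := by
    intro h
    have hne1 : g₀ ≠ 1 := by rintro rfl; omega
    have hX2 := hnd 2 Nat.prime_two h2 g₀ hg₀
    have hX3 := hnd 3 Nat.prime_three h3 g₀ hg₀
    rw [h] at hX2 hX3
    obtain ⟨e, he⟩ := pow_two_of_odd_uniformBell (hGpos g₀ hg₀).1 hX2
    have hu0 : u g₀ = 2 * g₀ := by rw [hu]; simp [h]
    have hC : ¬ 3 ∣ (2 * g₀ + r).choose (2 * g₀) := fun hd =>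
      hmn 3 Nat.prime_three h3 (by rw [hsplit, hu0]; exact hd.mul_right _)
    obtain ⟨hF, -⟩ := lt_of_two (hGpos g₀ hg₀).1 hX3 hC (by omega)
    have hFle : 3 ^ Nat.log 3 g₀ ≤ g₀ := Nat.pow_log_le_self 3 (hGpos g₀ hg₀).1
    have hFne : 3 ^ Nat.log 3 g₀ ≠ g₀ := by
      intro heq
      rcases Nat.eq_zero_or_pos e with rfl | he'
      · simp at he; omega
      · have h2c : 2 ∣ 3 ^ Nat.log 3 g₀ := by rw [heq, he]; exact dvd_pow_self 2 (by omega)
        exact absurd (Nat.prime_two.dvd_of_dvd_pow h2c) (by norm_num)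
    refine ⟨by omega, ?_, e, he⟩
    by_contra hlt
    have hg2 : g₀ = 2 := by
      rcases e with _ | _ | e
      · simp at he; omega
      · simpa using he
      · have : 4 ≤ 2 ^ (e + 2) := by rw [pow_add]; have := Nat.one_le_two_pow (n := e); omega
        omega
    subst hg2
    exact hX3 (by rw [Nat.uniformBell_eq_div 2 (by norm_num)]; decide)
  have hra : r < g₀ := by
    rcases hk0 with h | h
    · rw [hu] at hbig; simp only [h, one_mul] at hbig; omega
    · have := (hr2 h).1; omega
  have hprime0 : ∀ p : ℕ, p.Prime → p ≤ g₀ → p ∈ π := hprime g₀ hg₀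
  -- the small part is a single class
  have hrest1 : Nat.multinomial (G.erase g₀) u = 1 := by
    refine eq_one_of_forall_prime_not_dvd (r := r) ⟨∏ i ∈ G.erase g₀, (u i).factorial, ?_⟩ ?_
    · rw [hr, ← Nat.multinomial_spec, mul_comm]
    · intro p hp hpr hd
      exact hmn p hp (hprime0 p hp (by omega)) (by rw [hsplit]; exact hd.mul_left _)
  have hrestk : ∀ g ∈ G.erase g₀, k g = 1 := by
    intro g hg
    obtain ⟨hg1, hgG⟩ := Finset.mem_erase.1 hg
    have := (hGpos g hgG).2; have := hk2 g hgG
    by_contra hne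
    have h2' : k g = 2 := by omega
    have hle : u g ≤ r := Finset.single_le_sum (fun j _ => Nat.zero_le _) hg
    have hX : Nat.uniformBell (k g) g = 1 := by
      refine eq_one_of_forall_prime_not_dvd (r := r) ?_
        fun p hp hpr => hnd p hp (hprime0 p hp (by omega)) g hgG
      refine (Dvd.intro_left _ (uniformBell_mul (hGpos g hgG).1).symm).trans
        (Nat.factorial_dvd_factorial ?_)
      exact hle
    rw [h2'] at hX
    have hcm := choose_mul_eq_uniformBell_two g (hGpos g hgG).1
    rw [hX, mul_one] at hcm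
    have := Nat.choose_le_middle 1 (2 * g)
    rw [Nat.choose_one_right, Nat.mul_div_cancel_left g (by norm_num : 0 < 2), hcm] at this
    have := (hGpos g hgG).1
    have hg11 : g = 1 := by omega
    subst hg11; omega
  have hrestr : ∀ g ∈ G.erase g₀, g = r := by
    intro g hg
    have hug : u g = g := by rw [hu]; simp [hrestk g hg]
    rw [← Finset.insert_erase hg, Nat.multinomial_insert (Finset.notMem_erase g _)] at hrest1
    have hc := Nat.eq_one_of_mul_eq_one_right hrest1
    have hadd : u g + ∑ i ∈ (G.erase g₀).erase g, u i = r := by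
      rw [Finset.add_sum_erase _ u hg]
    by_contra hne
    have := two_le_choose (x := u g) (y := ∑ i ∈ (G.erase g₀).erase g, u i)
      (by rw [hug]; exact Nat.pos_of_ne_zero (hGpos g (Finset.mem_of_mem_erase hg)).1) (by omega)
    omega
  -- labels
  obtain ⟨q₀, -, hq₀⟩ := Finset.mem_image.1 hg₀
  set lb : Quotient s → Fin 3 := fun c => if c = q₀ then 0 else if size c = g₀ then 1 else 2
    with hlb
  have hinj : Function.Injective lb := by
    intro c d hcd
    simp only [hlb] at hcd
    by_cases hc : c = q₀ <;> by_cases hd : d = q₀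
    · exact hc.trans hd.symm
    · simp only [hc, hd, if_true, if_false] at hcd; split_ifs at hcd <;> simp at hcd
    · simp only [hc, hd, if_true, if_false] at hcd; split_ifs at hcd <;> simp at hcd
    simp only [hc, hd, if_false] at hcd
    by_cases hc' : size c = g₀ <;> by_cases hd' : size d = g₀
    · by_contra hne
      have hsub : ({q₀, c, d} : Finset (Quotient s)) ⊆ Finset.univ.filter fun c => size c = g₀ := by
        intro x hx
        simp only [Finset.mem_insert, Finset.mem_singleton] at hx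
        rcases hx with rfl | rfl | rfl <;> simp [hq₀, hc', hd']
      have h3c : ({q₀, c, d} : Finset (Quotient s)).card = 3 :=
        Finset.card_eq_three.2 ⟨q₀, c, d, Ne.symm hc, Ne.symm hd, hne, rfl⟩
      have := Finset.card_le_card hsub
      rw [h3c, ← hk'] at this
      omega
    · simp [hc', hd'] at hcd
    · simp [hc', hd'] at hcd
    · have hmc : size c ∈ G.erase g₀ := Finset.mem_erase.2 ⟨hc', Finset.mem_image_of_mem _ (Finset.mem_univ c)⟩
      have hmd : size d ∈ G.erase g₀ := Finset.mem_erase.2 ⟨hd', Finset.mem_image_of_mem _ (Finset.mem_univ d)⟩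
      have h1 := hrestk _ hmc
      rw [hk', Finset.card_eq_one] at h1
      obtain ⟨z, hz⟩ := h1
      have ec : c = z := Finset.mem_singleton.1 (hz ▸ by simp)
      have ed : d = z := Finset.mem_singleton.1 (hz ▸ by simp [hrestr _ hmc, hrestr _ hmd])
      exact ec.trans ed.symm
  set f : α → Fin 3 := fun x => lb (Quotient.mk s x) with hf
  have hfib : ∀ c : Quotient s, Nat.card {x // f x = lb c} = size c := fun c =>
    Nat.card_congr (Equiv.subtypeEquivRight fun x => ⟨fun h => hinj h, fun h => congrArg lb h⟩)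
  have hfib' : ∀ i : Fin 3, (∀ c, lb c ≠ i) → Nat.card {x // f x = i} = 0 := fun i hi => by
    rw [Nat.card_eq_zero]; exact Or.inl ⟨fun x => hi _ x.2⟩
  have h0 : Nat.card {x // f x = 0} = g₀ := by
    rw [show (0 : Fin 3) = lb q₀ by simp [hlb], hfib, hq₀]
  have h1 : Nat.card {x // f x = 1} = if k g₀ = 2 then g₀ else 0 := by
    split_ifs with h
    · have h1 := h
      rw [hk', Finset.card_eq_two] at h1
      obtain ⟨x, y, hxy, hset⟩ := h1
      obtain ⟨c, hc, hcg⟩ : ∃ c, c ≠ q₀ ∧ size c = g₀ := by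
        have hx : size x = g₀ := by
          have hm : x ∈ ({x, y} : Finset _) := Finset.mem_insert_self x _
          rw [← hset] at hm
          exact (Finset.mem_filter.1 hm).2
        have hy : size y = g₀ := by
          have hm : y ∈ ({x, y} : Finset _) := Finset.mem_insert_of_mem (Finset.mem_singleton_self y)
          rw [← hset] at hm
          exact (Finset.mem_filter.1 hm).2
        by_cases hxq : x = q₀
        · exact ⟨y, fun hy' => hxy (hxq.trans hy'.symm), hy⟩
        · exact ⟨x, hxq, hx⟩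
      rw [show (1 : Fin 3) = lb c by simp [hlb, hc, hcg], hfib, hcg]
    · apply hfib'
      intro c hc
      simp only [hlb] at hc
      split_ifs at hc with hc1 hc2
      · simp at hc
      · have h1 : k g₀ = 1 := hk0.resolve_right h
        rw [hk', Finset.card_eq_one] at h1
        obtain ⟨z, hz⟩ := h1
        have ec : c ∈ ({z} : Finset (Quotient s)) := by rw [← hz]; simp [hc2]
        have eq : q₀ ∈ ({z} : Finset (Quotient s)) := by rw [← hz]; simp [hq₀]
        exact hc1 ((Finset.mem_singleton.1 ec).trans (Finset.mem_singleton.1 eq).symm)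
      · simp at hc
  have h2' : Nat.card {x // f x = 2} = r := by
    by_cases hne : (G.erase g₀).Nonempty
    · obtain ⟨g, hg⟩ := hne
      obtain ⟨c, -, hc⟩ := Finset.mem_image.1 (Finset.mem_of_mem_erase hg)
      have hcg : size c ≠ g₀ := hc ▸ Finset.ne_of_mem_erase hg
      have hcq : c ≠ q₀ := fun h => hcg (h ▸ hq₀)
      rw [show (2 : Fin 3) = lb c by simp [hlb, hcq, hcg], hfib, hc, hrestr g hg]
    · rw [Finset.not_nonempty_iff_eq_empty] at hne
      rw [show r = 0 by rw [hr, hne]; rfl]
      apply hfib'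
      intro c hc
      simp only [hlb] at hc
      split_ifs at hc with hc1 hc2
      · simp at hc
      · simp at hc
      · exact (Finset.notMem_empty (size c))
          (hne ▸ Finset.mem_erase.2 ⟨hc2, Finset.mem_image_of_mem _ (Finset.mem_univ c)⟩)
  have hlab : lab f = s := Setoid.ext fun x y =>
    ⟨fun h => Quotient.exact (hinj h), fun h => congrArg lb (Quotient.sound h)⟩
  refine ⟨g₀, (if k g₀ = 2 then g₀ else 0), r, ?_, ⟨f, h0, h1, h2', hlab ▸ hHN⟩, ?_, hprime0⟩
  · rcases hk0 with h | h
    · refine Or.inl ⟨by simp [h], hra, ?_, ?_⟩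
      · rw [hu] at hbig; simpa [h] using hbig
      · rw [hu] at hnr; simpa [h] using hnr
    · obtain ⟨ha, hb, hc⟩ := hr2 h
      refine Or.inr ⟨by simp [h], hb, ha, hc, ?_⟩
      rw [hu] at hnr; simpa [h] using hnr
  · rw [hcardH, hB, ← Finset.insert_erase hg₀, Finset.prod_insert (Finset.notMem_erase _ _)]
    have hrest : ∏ g ∈ G.erase g₀, (g.factorial ^ k g * (k g).factorial) = r.factorial := by
      rw [Finset.prod_congr rfl fun g hg => show g.factorial ^ k g * (k g).factorial = (u g).factorial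
          by rw [hu]; simp [hrestk g hg]]
      have := Nat.multinomial_spec (G.erase g₀) u
      rwa [hrest1, mul_one, ← hr] at this
    rw [hrest]
    unfold shapeCard
    rcases hk0 with h | h
    · simp [h]
    · rw [h, if_pos rfl, if_neg (hGpos g₀ hg₀).1, Nat.factorial_two]; ring

end

end Cfsg.Agent.KnownC.AnHall
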